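import Groth.Agent.Deform.Homogeneous.Action
import Groth.Agent.Deform.Neutral.Open
import Groth.Agent.GrpSchLib.FieldComp
import Groth.Agent.GrpSchLib.GeomIrr
import Groth.Agent.FDescent.MaxPoint

/-!
# Components of homogeneous spaces over a field
-/

set_option autoImplicit false

universe u

open CategoryTheory CategoryTheory.Limits MonoidalCategory CartesianMonoidalCategory MonObj GrpObj AlgebraicGeometry

attribute [local instance] CategoryTheory.Hom.monoid CategoryTheory.Hom.group
set_option linter.style.haveILetI false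
set_option linter.unusedSectionVars false

namespace Groth.Agent.Deform.Homogeneous

noncomputable section

open GrpSchLib

theorem mem_neutralSet_of_specializes {K : Type u} [Field K] {G : Over (Spec (CommRingCat.of K))} [GrpObj G] {g : G.left}
    (h : g ⤳ η[G].left (IsLocalRing.closedPoint K)) : g ∈ SGA3x.neutralSet G := by
  rw [Deform.Neutral.neutralSet_field]
  exact isIrreducible_singleton.closure.isPreirreducible.isPreconnected.subset_connectedComponent h.mem_closure
    (subset_closure rfl)

theorem neutralSet_eq_closure {K : Type u} [Field K] {G : Over (Spec (CommRingCat.of K))} [GrpObj G] {g : G.left}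
    (hg : IsMaxPt g) (hge : g ⤳ η[G].left (IsLocalRing.closedPoint K)) : SGA3x.neutralSet G = closure {g} := by
  rw [Deform.Neutral.neutralSet_field, connectedComponent_one hg hge]

/-- A quasi-compact open subset has closed hull. -/
theorem closure_subset_hull {Y : Scheme.{u}} (U : Y.Opens) [QuasiCompact U.ι] :
    closure (U : Set Y) ⊆ hull (U : Set Y) := by
  intro p hp
  obtain ⟨z, hz⟩ := GenSub.Spread.exists_specializes_of_closure_range U.ι (by rwa [Scheme.Opens.range_ι])
  exact ⟨U.ι z, z.2, hz⟩

theorem hull_subset_closure {Y : Scheme.{u}} (U : Set Y) : hull U ⊆ closure U :=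
  fun _ ⟨_, hc, hcy⟩ => hcy.mem_closed isClosed_closure (subset_closure hc)

theorem quasiCompact_ι {Y : Scheme.{u}} (U : Y.Opens) (hU : IsRetrocompact (U : Set Y)) : QuasiCompact U.ι := by
  refine ⟨fun V hV hVc => ?_⟩
  rw [U.ι.isOpenEmbedding.isInducing.isCompact_iff, Set.image_preimage_eq_inter_range, Scheme.Opens.range_ι, Set.inter_comm]
  exact hU hVc hV

variable {k : Type u} [Field k] {G X : Over (Spec (CommRingCat.of k))} [GrpObj G] (a : AlgGrp.Action G X)

omit [GrpObj G] in
theorem fst_map {A B : Over (Spec (CommRingCat.of k))} {S' : Scheme.{u}} (σ : S' ⟶ Spec (CommRingCat.of k)) (g : A ⟶ B)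
    (z : (Red.bc σ A).left) :
    pullback.fst B.hom σ (((Over.pullback σ).map g).left z) = g.left (pullback.fst A.hom σ z) :=
  congrArg (fun m : (Red.bc σ A).left ⟶ B.left => m z) (pullback.lift_fst _ _ _)

theorem orbitMap_one {L : Type u} [Field L] {G X : Over (Spec (CommRingCat.of L))} [GrpObj G] (a : AlgGrp.Action G X)
    (x : 𝟙_ (Over (Spec (CommRingCat.of L))) ⟶ X) :
    (a.orbitMap x).left (η[G].left (IsLocalRing.closedPoint L)) = x.left (IsLocalRing.closedPoint L) := by
  rw [← left_comp_apply, comp_orbitMap, MonObj.one_eq_one, act_one]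
  exact apply_pointSection (G := X) x _

variable (hΦ : Surjective (lift a.act (snd G X)).left)

include hΦ in
/-- Every point of a homogeneous space lies on a single irreducible component. -/
theorem uniComp : UniComp X.left := by
  intro z b b' hb hb'
  obtain ⟨L, _, _, φ, z', rfl⟩ := exists_bc_point (G := X) z
  let σ := Spec.map (CommRingCat.ofHom φ)
  obtain ⟨b₁, hb₁, rfl⟩ := bcProj_generalizing φ hb
  obtain ⟨b₂, hb₂, rfl⟩ := bcProj_generalizing φ hb'
  have hgen := generalizingMap_orbitMap (bcAction a σ) (surjective_bcAction a σ hΦ) z'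
  have h1 := orbitMap_one (bcAction a σ) z'
  rw [← h1] at hb₁ hb₂
  obtain ⟨g₁, hg₁, rfl⟩ := hgen hb₁
  obtain ⟨g₂, hg₂, rfl⟩ := hgen hb₂
  obtain ⟨c, hc₁, hc₂⟩ := GrpSchLib.uniComp (G := bc G φ) _ g₁ g₂ hg₁ hg₂
  exact ⟨_, (hc₁.map ((bcAction a σ).orbitMap z').left.continuous).map (bcProj X φ).continuous,
    (hc₂.map ((bcAction a σ).orbitMap z').left.continuous).map (bcProj X φ).continuous⟩

/-- Translation by the neutral component keeps the components. -/
theorem exists_specializes_act (p : (G ⊗ X).left) (hp : (fst G X).left p ∈ SGA3x.neutralSet G) :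
    ∃ c, c ⤳ a.act.left p ∧ c ⤳ (snd G X).left p := by
  obtain ⟨g, hg, hge⟩ := exists_isMaxPt (η[G].left (IsLocalRing.closedPoint k))
  obtain ⟨T, j, hj, hjr⟩ := exists_over_range_eq (closure {g}) isClosed_closure
  have := geometricallyIrreducible_one hg hge j hjr
  haveI : UniversallyOpen T.hom := VarGeom.universallyOpen_of_field (k := k) _
  let m := ((j ▷ X) ≫ a.act).left
  have hrange : Set.range (j ▷ X).left = (fst G X).left ⁻¹' closure {g} := by
    rw [Over.whiskerRight_left]
    refine (Scheme.Pullback.range_map _ _ _ _ _ _ _ _ _).trans ?_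
    simp only [hjr]
    rw [show Set.range (𝟙 X.left : X.left ⟶ X.left) = Set.univ from Set.eq_univ_of_forall fun w => ⟨w, rfl⟩,
      Set.preimage_univ, Set.inter_univ]
    rfl
  rw [neutralSet_eq_closure hg hge] at hp
  obtain ⟨p, rfl⟩ : p ∈ Set.range (j ▷ X).left := hrange ▸ hp
  rw [← left_comp_apply (j ▷ X) (snd G X), whiskerRight_snd]
  set v := (snd T X).left p
  have hfib : IsIrreducible ((snd T X).left ⁻¹' {v}) := by
    have : GeometricallyIrreducible (snd T X).left :=
      inferInstanceAs (GeometricallyIrreducible (pullback.snd T.hom X.hom))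
    have : UniversallyOpen (snd T X).left := inferInstanceAs (UniversallyOpen (pullback.snd T.hom X.hom))
    exact (snd T X).left.isIrreducible_preimage (snd T X).left.isOpenMap isIrreducible_singleton
  have hW := isIrreducible_closure_image m.continuous hfib
  have hgen := hW.isGenericPoint_genericPoint isClosed_closure
  have : (lift (toUnit X ≫ η[G]) (𝟙 X)).left v ∈ Set.range (j ▷ X).left := by
    rw [hrange, Set.mem_preimage, ← left_comp_apply, lift_fst]
    have : (toUnit X ≫ η[G]).left v = η[G].left (IsLocalRing.closedPoint k) := by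
      rw [Over.comp_left, Scheme.Hom.comp_apply]
      exact congrArg η[G].left (@Subsingleton.elim (Spec (CommRingCat.of k)) inferInstance _ _)
    rw [this]
    exact hge.mem_closure
  obtain ⟨q, hq⟩ := this
  refine ⟨hW.genericPoint, hgen.specializes (subset_closure ⟨p, rfl, rfl⟩),
    hgen.specializes (y := v) (subset_closure ⟨q, ?_, ?_⟩)⟩
  · show (snd T X).left q = v
    rw [show (snd T X) = j ▷ X ≫ snd G X by simp, left_comp_apply, hq, ← left_comp_apply, lift_snd]
    rfl
  · show a.act.left ((j ▷ X).left q) = v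
    rw [hq, ← left_comp_apply, MonObj.one_eq_one, MonObj.comp_one, act_one]
    rfl

include hΦ in
/-- A point is a translate of its generizations by the neutral component. -/
theorem exists_translate {c y : X.left} (hcy : c ⤳ y) :
    ∃ p : (G ⊗ X).left, (fst G X).left p ∈ SGA3x.neutralSet G ∧ (snd G X).left p = c ∧ a.act.left p = y := by
  obtain ⟨L, _, _, φ, y', rfl⟩ := exists_bc_point (G := X) y
  let σ := Spec.map (CommRingCat.ofHom φ)
  let a' := bcAction a σ
  obtain ⟨c', hc', rfl⟩ := bcProj_generalizing φ hcy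
  have h1 := orbitMap_one a' y'
  rw [← h1] at hc'
  obtain ⟨g, hg, rfl⟩ := generalizingMap_orbitMap a' (surjective_bcAction a σ hΦ) y' hc'
  obtain ⟨T, t, r, -, ht⟩ := GenSub.exists_point (Red.bc σ G) g
  let w : T ⟶ (Over.pullback σ).obj (G ⊗ X) :=
    lift t⁻¹ (t ≫ a'.orbitMap y') ≫ Functor.LaxMonoidal.μ (Over.pullback σ) G X
  refine ⟨pullback.fst (G ⊗ X).hom σ (w.left r), ?_, ?_, ?_⟩
  · rw [← fst_map σ (fst G X), ← left_comp_apply w ((Over.pullback σ).map (fst G X))]
    simp only [w, Category.assoc, Functor.Monoidal.μ_fst, lift_fst]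
    have h := Deform.Neutral.div_mem_field (H := Red.bc σ G) (1 : T ⟶ Red.bc σ G) t r (Deform.Neutral.one_mem r)
      (ht r ▸ mem_neutralSet_of_specializes hg)
    rw [_root_.one_mul, Groth.Agent.S5322.result] at h
    exact h
  · rw [← fst_map σ (snd G X), ← left_comp_apply w ((Over.pullback σ).map (snd G X))]
    simp only [w, Category.assoc, Functor.Monoidal.μ_snd, lift_snd]
    rw [Over.comp_left, Scheme.Hom.comp_apply, ht]
  · rw [← fst_map σ a.act, ← left_comp_apply w ((Over.pullback σ).map a.act)]
    have e : w ≫ (Over.pullback σ).map a.act = toUnit T ≫ y' := by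
      rw [Category.assoc]
      show lift t⁻¹ (t ≫ a'.orbitMap y') ≫ a'.act = _
      rw [comp_orbitMap, act_mul, inv_mul_cancel, act_one]
    rw [e, apply_pointSection (G := Red.bc σ X)]

include hΦ in
/-- `C⁰ · U` is the hull of `U`. -/
theorem image_eq_hull (U : X.left.Opens) :
    a.act.left '' {z : (G ⊗ X).left | (fst G X).left z ∈ SGA3x.neutralSet G ∧ (snd G X).left z ∈ U} =
      hull (U : Set X.left) := by
  ext y
  constructor
  · rintro ⟨p, ⟨hp, hpU⟩, rfl⟩
    obtain ⟨c, hc₁, hc₂⟩ := exists_specializes_act a p hp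
    exact ⟨c, hc₂.mem_open U.isOpen hpU, hc₁⟩
  · rintro ⟨c, hcU, hcy⟩
    obtain ⟨p, h1, h2, h3⟩ := exists_translate a hΦ hcy
    exact ⟨p, ⟨h1, show (snd G X).left p ∈ (U : Set X.left) from h2.symm ▸ hcU⟩, h3⟩

include hΦ in
theorem isOpen_hull (U : X.left.Opens) : IsOpen (hull (U : Set X.left)) := by
  obtain ⟨g, hg, hge⟩ := exists_isMaxPt (η[G].left (IsLocalRing.closedPoint k))
  obtain ⟨T, j, hj, hjr⟩ := exists_over_range_eq (closure {g}) isClosed_closure
  haveI : UniversallyOpen T.hom := VarGeom.universallyOpen_of_field (k := k) _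
  let τ : T ⊗ X ≅ T ⊗ X :=
    { hom := lift (fst T X) (lift (fst T X ≫ j) (snd T X) ≫ a.act)
      inv := lift (fst T X) (lift (fst T X ≫ j)⁻¹ (snd T X) ≫ a.act)
      hom_inv_id := by
        apply CartesianMonoidalCategory.hom_ext
        · simp
        · rw [Category.assoc, lift_snd, ← Category.assoc, comp_lift, GrpObj.comp_inv, lift_fst_assoc, lift_snd,
            act_mul, inv_mul_cancel, act_one, Category.id_comp]
      inv_hom_id := by
        apply CartesianMonoidalCategory.hom_ext
        · simp
        · rw [Category.assoc, lift_snd, ← Category.assoc, comp_lift, lift_fst_assoc, lift_snd, act_mul,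
            mul_inv_cancel, act_one, Category.id_comp] }
  haveI : IsIso τ.hom.left := ((Over.forget _).mapIso τ).isIso_hom
  haveI : UniversallyOpen (snd T X).left := inferInstanceAs (UniversallyOpen (pullback.snd T.hom X.hom))
  have e : (j ▷ X) ≫ a.act = τ.hom ≫ snd T X := by
    simp only [τ, lift_snd]
    rw [show j ▷ X = lift (fst T X ≫ j) (snd T X) by apply CartesianMonoidalCategory.hom_ext <;> simp]
  have hop : IsOpenMap ((j ▷ X) ≫ a.act).left := by
    rw [e, Over.comp_left]
    exact Scheme.Hom.isOpenMap _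
  have hV : a.act.left '' {z : (G ⊗ X).left | (fst G X).left z ∈ SGA3x.neutralSet G ∧ (snd G X).left z ∈ U} =
      ((j ▷ X) ≫ a.act).left '' ((snd T X).left ⁻¹' (U : Set X.left)) := by
    have hrange : Set.range (j ▷ X).left = (fst G X).left ⁻¹' closure {g} := by
      rw [Over.whiskerRight_left]
      refine (Scheme.Pullback.range_map _ _ _ _ _ _ _ _ _).trans ?_
      simp only [hjr]
      rw [show Set.range (𝟙 X.left : X.left ⟶ X.left) = Set.univ from Set.eq_univ_of_forall fun w => ⟨w, rfl⟩,
        Set.preimage_univ, Set.inter_univ]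
      rfl
    have hs : (snd T X) = j ▷ X ≫ snd G X := by simp
    have hmem : ∀ y : (G ⊗ X).left, (fst G X).left y ∈ SGA3x.neutralSet G ↔ y ∈ Set.range (j ▷ X).left := fun y => by
      rw [hrange, neutralSet_eq_closure hg hge]; rfl
    simp only [hmem]
    ext y
    constructor
    · rintro ⟨z, ⟨⟨w, rfl⟩, hzU⟩, rfl⟩
      exact ⟨w, by rw [Set.mem_preimage, hs, left_comp_apply]; exact hzU, rfl⟩
    · rintro ⟨w, hw, rfl⟩
      rw [Set.mem_preimage, hs, left_comp_apply] at hw
      exact ⟨_, ⟨⟨w, rfl⟩, hw⟩, rfl⟩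
  rw [← image_eq_hull a hΦ U, hV]
  exact hop _ (U.isOpen.preimage (snd T X).left.continuous)

include hΦ in
/-- The connected components of a quasi-separated homogeneous space are irreducible. -/
theorem connectedComponent_eq [QuasiSeparatedSpace X.left] {c x : X.left} (hc : IsMaxPt c) (hcx : c ⤳ x) :
    connectedComponent x = closure {c} := by
  refine subset_antisymm (fun y hy => ?_)
    (isIrreducible_singleton.closure.isPreirreducible.isPreconnected.subset_connectedComponent hcx.mem_closure)
  by_contra hyc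
  obtain ⟨d, hd, hdy⟩ := exists_isMaxPt y
  have hx : x ∉ closure {d} := fun h => hyc <| by
    rw [hc.eq (uniComp a hΦ) hd hcx (specializes_iff_mem_closure.mpr h)]
    exact hdy.mem_closure
  obtain ⟨V, hV, hxV, hVs⟩ := exists_isAffineOpen_mem_and_subset
    (U := (⟨(closure {d})ᶜ, isClosed_closure.isOpen_compl⟩ : X.left.Opens)) hx
  haveI : QuasiCompact V.ι := quasiCompact_ι V fun W hW hWo =>
    QuasiSeparatedSpace.inter_isCompact _ _ V.2 hV.isCompact hWo hW
  have hclopen : IsClopen (hull (V : Set X.left)) :=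
    ⟨closure_subset_iff_isClosed.mp ((closure_minimal (hull_subset_closure _) isClosed_closure).trans
      (closure_subset_hull V)), isOpen_hull a hΦ V⟩
  obtain ⟨d', hd'V, hd'⟩ := hclopen.connectedComponent_subset ⟨_, hxV, specializes_rfl⟩ hy
  exact hVs hd'V (hd.specializes (uniComp a hΦ) hdy hd').mem_closure

include hΦ in
/-- An irreducible homogeneous space is quasi-compact. -/
theorem compactSpace [IrreducibleSpace X.left] : CompactSpace X.left := by
  obtain ⟨V, hV, hνV, -⟩ := exists_isAffineOpen_mem_and_subset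
    (show genericPoint X.left ∈ (⊤ : X.left.Opens) from trivial)
  obtain ⟨g, hg, hge⟩ := exists_isMaxPt (η[G].left (IsLocalRing.closedPoint k))
  have hc : IsCompact {z : (G ⊗ X).left | (fst G X).left z ∈ SGA3x.neutralSet G ∧ (snd G X).left z ∈ V} := by
    obtain ⟨T, j, hj, hjr⟩ := exists_over_range_eq (closure {g}) isClosed_closure
    haveI : CompactSpace T.left := ⟨by
      rw [j.left.isClosedEmbedding.isInducing.isCompact_iff, Set.image_univ, hjr]
      exact isCompact_closure_one hg hge⟩
    haveI : IsAffine V.toScheme := hV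
    haveI : QuasiCompact T.hom := (quasiCompact_iff_compactSpace T.hom).mpr inferInstance
    haveI : CompactSpace ↥(pullback T.hom (V.ι ≫ X.hom)) :=
      QuasiCompact.compactSpace_of_compactSpace (pullback.snd T.hom (V.ι ≫ X.hom))
    let m : pullback T.hom (V.ι ≫ X.hom) ⟶ (G ⊗ X).left :=
      pullback.map T.hom (V.ι ≫ X.hom) G.hom X.hom j.left V.ι (𝟙 _) (by rw [Category.comp_id, Over.w j])
        (Category.comp_id _)
    have hr : Set.range m = (fst G X).left ⁻¹' Set.range j.left ∩ (snd G X).left ⁻¹' Set.range V.ι :=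
      Scheme.Pullback.range_map _ _ _ _ _ _ _ _ _
    rw [hjr, Scheme.Opens.range_ι, ← neutralSet_eq_closure hg hge] at hr
    have : {z : (G ⊗ X).left | (fst G X).left z ∈ SGA3x.neutralSet G ∧ (snd G X).left z ∈ V} = Set.range m := hr.symm
    rw [this]
    exact isCompact_range m.continuous
  have huniv : hull (V : Set X.left) = Set.univ := Set.eq_univ_of_forall fun y =>
    ⟨_, hνV, (genericPoint_spec X.left).specializes trivial⟩
  exact ⟨huniv ▸ image_eq_hull a hΦ V ▸ hc.image a.act.left.continuous⟩

include hΦ in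
/-- The component of a rational point is geometrically irreducible. -/
theorem isIrreducible_preimage (x : 𝟙_ (Over (Spec (CommRingCat.of k))) ⟶ X) {c : X.left} (hc : IsMaxPt c)
    (hcx : c ⤳ x.left (IsLocalRing.closedPoint k)) {K : Type u} [Field K] [Algebra k K] :
    IsIrreducible ((pullback.fst X.hom (Spec.map (CommRingCat.ofHom (algebraMap k K)))) ⁻¹' closure {c}) := by
  obtain ⟨T, j, hj, hjr⟩ := exists_over_range_eq (closure {c}) isClosed_closure
  suffices GeometricallyIrreducible T.hom by
    let j' : bc T (algebraMap k K) ⟶ bc X (algebraMap k K) :=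
      (Over.pullback (Spec.map (CommRingCat.ofHom (algebraMap k K)))).map j
    haveI : IrreducibleSpace (bc T (algebraMap k K)).left :=
      GeometricallyIrreducible.geometrically_irreducibleSpace _ _ _ (IsPullback.of_hasPullback _ _)
    rw [← hjr, ← GenSub.Spread.range_map (Spec.map (CommRingCat.ofHom (algebraMap k K))) j, ← Set.image_univ]
    exact (IrreducibleSpace.isIrreducible_univ _).image _ j'.left.continuous.continuousOn
  refine geometricallyIrreducible_of_algClosure T.hom ?_
  let φ := algebraMap k (AlgebraicClosure k)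
  let j' : bc T φ ⟶ bc X φ := (Over.pullback (Spec.map (CommRingCat.ofHom φ))).map j
  have : IsClosedImmersion j'.left :=
    MorphismProperty.baseChange_map (P := @IsClosedImmersion) _ j ‹_›
  have hr : Set.range j'.left = bcProj X φ ⁻¹' closure {c} := by
    rw [← hjr]; exact GenSub.Spread.range_map _ j
  suffices h : IsIrreducible (bcProj X φ ⁻¹' closure {c}) from irreducibleSpace_of_range j' (hr ▸ h)
  have : IsIntegralHom (Spec.map (CommRingCat.ofHom φ)) :=
    (IsIntegralHom.SpecMap_iff).mpr (algebraMap_isIntegral_iff.mpr inferInstance)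
  have hcl : IsClosedMap (bcProj X φ) := (bcProj X φ).isClosedMap
  have key : (bcProj X φ ⁻¹' {x.left (IsLocalRing.closedPoint k)}).Subsingleton := by
    have hr : Set.range x.left = {x.left (IsLocalRing.closedPoint k)} := by
      refine Set.Subset.antisymm ?_ (Set.singleton_subset_iff.mpr ⟨_, rfl⟩)
      rintro _ ⟨y, rfl⟩
      exact congrArg x.left (@Subsingleton.elim (Spec (CommRingCat.of k)) inferInstance _ _)
    rw [← hr, ← Scheme.Pullback.range_snd, ← Set.image_univ]
    refine Set.Subsingleton.image ?_ _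
    have : Subsingleton ↥(pullback x.left (bcProj X φ)) :=
      ((pullbackRightPullbackFstIso X.hom (Spec.map (CommRingCat.ofHom φ)) x.left) ≪≫
        pullback.congrHom (show x.left ≫ X.hom = 𝟙 _ from Over.w x) rfl ≪≫
        asIso (pullback.snd (𝟙 _) _)).hom.homeomorph.subsingleton
    exact Set.subsingleton_univ
  have hu' : UniComp (bc X φ).left :=
    uniComp (G := bc G φ) (bcAction a _) (surjective_bcAction a _ hΦ)
  have main : ∀ b, b ∈ bcProj X φ ⁻¹' closure {c} →
      ∃ d e', IsMaxPt d ∧ d ⤳ b ∧ d ⤳ e' ∧ bcProj X φ e' = x.left (IsLocalRing.closedPoint k) ∧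
        bcProj X φ d = c := by
    intro b hb
    obtain ⟨d, hd, hdb⟩ := exists_isMaxPt b
    have hdc : bcProj X φ d = c := (hd.map (bcProj_generalizing φ)).eq (uniComp a hΦ) hc
      (hdb.map (bcProj X φ).continuous) (specializes_iff_mem_closure.mpr hb)
    obtain ⟨e', he', he''⟩ :=
      (hdc ▸ hcx).mem_closed (hcl (closure {d}) isClosed_closure) ⟨d, subset_closure rfl, rfl⟩
    exact ⟨d, e', hd, hdb, specializes_iff_mem_closure.mpr he', he'', hdc⟩
  have := surjective_spec_map_field φ
  obtain ⟨c', hcc⟩ := (bcProj X φ).surjective c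
  obtain ⟨d, e', hd, hdb, hde, he', hdc⟩ := main c' (by rw [Set.mem_preimage, hcc]; exact subset_closure rfl)
  have : bcProj X φ ⁻¹' closure {c} = closure {d} := by
    refine subset_antisymm (fun b hb => ?_) (closure_minimal ?_ (isClosed_closure.preimage (bcProj X φ).continuous))
    · obtain ⟨d', e'', hd', hdb', hde', he'', -⟩ := main b hb
      obtain rfl := key he' he''
      rw [hd.eq hu' hd' hde hde']
      exact hdb'.mem_closure
    · rintro _ rfl
      rw [Set.mem_preimage, hdc]
      exact subset_closure rfl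
  rw [this]
  exact isIrreducible_singleton.closure

include hΦ in
/-- The orbit of a rational point under the neutral component is its irreducible component. -/
theorem image_orbitMap (x : 𝟙_ (Over (Spec (CommRingCat.of k))) ⟶ X) {c : X.left} (hc : IsMaxPt c)
    (hcx : c ⤳ x.left (IsLocalRing.closedPoint k)) :
    (a.orbitMap x).left '' SGA3x.neutralSet G = closure {c} := by
  obtain ⟨g, hg, hge⟩ := exists_isMaxPt (η[G].left (IsLocalRing.closedPoint k))
  refine subset_antisymm ?_ fun y hy => ?_
  · have hirr : IsIrreducible (closure ((a.orbitMap x).left '' SGA3x.neutralSet G)) := by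
      rw [neutralSet_eq_closure hg hge]
      exact isIrreducible_closure_image (a.orbitMap x).left.continuous isIrreducible_singleton.closure
    have hgen := hirr.isGenericPoint_genericPoint isClosed_closure
    have h := hc.specializes (uniComp a hΦ) hcx (hgen.specializes (subset_closure
      ⟨_, mem_neutralSet_of_specializes specializes_rfl, orbitMap_one a x⟩))
    exact fun y hy => (h.trans (hgen.specializes (subset_closure hy))).mem_closure
  · obtain ⟨p₁, hp₁N, hp₁c, hp₁⟩ := exists_translate a hΦ hcx
    obtain ⟨p₂, hp₂N, hp₂c, hp₂⟩ := exists_translate a hΦ (specializes_iff_mem_closure.mpr hy : c ⤳ y)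
    obtain ⟨z, hz₁, hz₂⟩ := Scheme.Pullback.exists_preimage_pullback (f := (snd G X).left) (g := (snd G X).left)
      p₁ p₂ (hp₁c.trans hp₂c.symm)
    let Z : Over (Spec (CommRingCat.of k)) := Over.mk (pullback.fst (snd G X).left (snd G X).left ≫ (G ⊗ X).hom)
    let t₁ : Z ⟶ G ⊗ X := Over.homMk (pullback.fst (snd G X).left (snd G X).left) rfl
    let t₂ : Z ⟶ G ⊗ X := Over.homMk (pullback.snd (snd G X).left (snd G X).left) (by
      show _ ≫ (G ⊗ X).hom = pullback.fst (snd G X).left (snd G X).left ≫ (G ⊗ X).hom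
      rw [← Over.w (snd G X), pullback.condition_assoc])
    have h12 : t₁ ≫ snd G X = t₂ ≫ snd G X := Over.OverMorphism.ext pullback.condition
    obtain ⟨T, q, r, hr, hq⟩ := GenSub.exists_point Z z
    haveI := hr
    have hs1 : ∀ r', (q ≫ t₁).left r' = p₁ := fun r' => by rw [left_comp_apply, hq]; exact hz₁
    have hs2 : ∀ r', (q ≫ t₂).left r' = p₂ := fun r' => by rw [left_comp_apply, hq]; exact hz₂
    have hx : (q ≫ t₁) ≫ a.act = toUnit T ≫ x := rational_point_eq x _ fun r' => by
      rw [left_comp_apply, hs1, hp₁]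
    let g₁ := (q ≫ t₁) ≫ fst G X
    let g₂ := (q ≫ t₂) ≫ fst G X
    have hcx' : (q ≫ t₁) ≫ snd G X = lift g₁⁻¹ (toUnit T ≫ x) ≫ a.act := by
      rw [← hx, show (q ≫ t₁) ≫ a.act = lift g₁ ((q ≫ t₁) ≫ snd G X) ≫ a.act by
        have e : ∀ t : T ⟶ G ⊗ X, lift (t ≫ fst G X) (t ≫ snd G X) = t := fun t => by rw [← comp_lift, lift_fst_snd, Category.comp_id]
        rw [e], act_mul, inv_mul_cancel, act_one]
    have hy' : (g₂ * g₁⁻¹) ≫ a.orbitMap x = (q ≫ t₂) ≫ a.act := by
      rw [comp_orbitMap, ← act_mul, ← hcx', Category.assoc q t₁, h12, ← Category.assoc,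
        ← comp_lift, lift_fst_snd, Category.comp_id]
    refine ⟨(g₂ * g₁⁻¹).left r, Deform.Neutral.div_mem_field g₂ g₁ r ?_ ?_, ?_⟩
    · rw [left_comp_apply, hs2]; exact hp₂N
    · rw [left_comp_apply, hs1]; exact hp₁N
    · rw [← left_comp_apply, hy', left_comp_apply, hs2, hp₂]

include hΦ in
theorem mem_iUnion_components_iff (U : X.left.Opens) (y : X.left) :
    y ∈ ⋃₀ {Z : Set X.left | Z ∈ irreducibleComponents ↥X.left ∧ ∃ ξ ∈ U, closure {ξ} = Z} ↔
      y ∈ hull (U : Set X.left) := by
  constructor
  · rintro ⟨Z, ⟨-, ξ, hξ, rfl⟩, hy⟩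
    exact ⟨ξ, hξ, specializes_iff_mem_closure.mpr hy⟩
  · rintro ⟨c, hcU, hcy⟩
    obtain ⟨d, hd, hdc⟩ := exists_isMaxPt c
    exact ⟨closure {d}, ⟨FDescent.closure_mem_irreducibleComponents hd, d, hdc.mem_open U.isOpen hcU, rfl⟩,
      (hdc.trans hcy).mem_closure⟩

end

end Groth.Agent.Deform.Homogeneous
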