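import Groth.Agent.GrpSchLib.Action
import Groth.Agent.Deform.FieldHom.MonoAffine
import Groth.Agent.S5347

/-!
# Homogeneous spaces over a field: orbit maps
-/

set_option autoImplicit false

universe u

open CategoryTheory CategoryTheory.Limits MonoidalCategory CartesianMonoidalCategory MonObj GrpObj AlgebraicGeometry

attribute [local instance] CategoryTheory.Hom.monoid CategoryTheory.Hom.group
set_option linter.style.haveILetI false
set_option linter.unusedSectionVars false

namespace Groth.Agent.Deform.Homogeneous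

noncomputable section

open GrpSchLib

variable {S : Scheme.{u}} {G X : Over S} [GrpObj G]

/-- An action from its point laws. -/
def mkAction (act : G ⊗ X ⟶ X) (h1 : ∀ {T : Over S} (x : T ⟶ X), lift 1 x ≫ act = x)
    (h2 : ∀ {T : Over S} (g h : T ⟶ G) (x : T ⟶ X), lift g (lift h x ≫ act) ≫ act = lift (g * h) x ≫ act) :
    AlgGrp.Action G X where
  act := act
  one_act := by
    have e : (η[G] ▷ X) = lift (1 : 𝟙_ (Over S) ⊗ X ⟶ G) (snd (𝟙_ (Over S)) X) := by
      apply CartesianMonoidalCategory.hom_ext
      · rw [whiskerRight_fst, lift_fst, MonObj.one_eq_one, MonObj.comp_one]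
      · simp
    rw [e]
    exact (h1 _).trans (CartesianMonoidalCategory.leftUnitor_hom X).symm
  mul_act := by
    have el : (μ[G] ▷ X) = lift ((fst (G ⊗ G) X ≫ fst G G) * (fst (G ⊗ G) X ≫ snd G G)) (snd (G ⊗ G) X) := by
      apply CartesianMonoidalCategory.hom_ext
      · rw [whiskerRight_fst, lift_fst, ← MonObj.comp_mul, Hom.mul_def, lift_fst_snd, Category.id_comp]
      · simp
    have er : (α_ G G X).hom ≫ (G ◁ act) =
        lift (fst (G ⊗ G) X ≫ fst G G) (lift (fst (G ⊗ G) X ≫ snd G G) (snd (G ⊗ G) X) ≫ act) := by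
      apply CartesianMonoidalCategory.hom_ext
      · simp
      · rw [Category.assoc, whiskerLeft_snd, lift_snd, ← Category.assoc]
        congr 1
        apply CartesianMonoidalCategory.hom_ext <;> simp
    rw [el, ← reassoc_of% er.symm, h2]

section bc

variable (a : AlgGrp.Action G X) {S' : Scheme.{u}} (f : S' ⟶ S)

/-- Base change of an action. -/
def bcAction : AlgGrp.Action (Red.bc f G) (Red.bc f X) where
  act := Functor.LaxMonoidal.μ (Over.pullback f) G X ≫ (Over.pullback f).map a.act
  one_act := by
    rw [show η[Red.bc f G] = Functor.LaxMonoidal.ε (Over.pullback f) ≫ (Over.pullback f).map η[G] from rfl,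
      MonoidalCategory.comp_whiskerRight_assoc, Functor.LaxMonoidal.μ_natural_left_assoc, ← Functor.map_comp,
      a.one_act]
    exact (Functor.LaxMonoidal.left_unitality (Over.pullback f) X).symm
  mul_act := by
    rw [show μ[Red.bc f G] = Functor.LaxMonoidal.μ (Over.pullback f) G G ≫ (Over.pullback f).map μ[G] from rfl,
      MonoidalCategory.comp_whiskerRight_assoc, Functor.LaxMonoidal.μ_natural_left_assoc, ← Functor.map_comp,
      a.mul_act, Functor.map_comp, Functor.map_comp, Functor.LaxMonoidal.associativity_assoc,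
      MonoidalCategory.whiskerLeft_comp_assoc, Functor.LaxMonoidal.μ_natural_right_assoc]

theorem surjective_bcAction (hΦ : Surjective (lift a.act (snd G X)).left) :
    Surjective (lift (bcAction a f).act (snd (Red.bc f G) (Red.bc f X))).left := by
  let F := Over.pullback f
  have e : lift (bcAction a f).act (snd (Red.bc f G) (Red.bc f X)) =
      Functor.LaxMonoidal.μ F G X ≫ F.map (lift a.act (snd G X)) ≫ (Functor.Monoidal.μIso F X X).inv := by
    rw [← Category.assoc, Iso.eq_comp_inv, Functor.Monoidal.μIso_hom]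
    refine (Functor.Monoidal.μIso F X X).symm.cancel_iso_hom_right _ _ |>.mp ?_
    simp only [Category.assoc, Iso.symm_hom, Functor.Monoidal.μIso_hom]
    rw [Functor.Monoidal.μIso_inv]
    apply CartesianMonoidalCategory.hom_ext <;>
      simp [F, bcAction, ← Functor.map_comp]
  rw [e, Over.comp_left, Over.comp_left]
  haveI : Surjective (F.map (lift a.act (snd G X))).left := by
    refine ⟨fun z => ?_⟩
    obtain ⟨w, hw⟩ := hΦ.surj (pullback.fst (X ⊗ X).hom f z)
    exact (GenSub.Spread.range_map f (lift a.act (snd G X))).ge ⟨w, hw⟩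
  haveI : IsIso (Functor.LaxMonoidal.μ F G X).left :=
    ((Over.forget _).mapIso (Functor.Monoidal.μIso F G X)).isIso_hom
  haveI : IsIso (Functor.Monoidal.μIso F X X).inv.left :=
    ((Over.forget _).mapIso (Functor.Monoidal.μIso F X X).symm).isIso_hom
  infer_instance

end bc

section field

variable {k : Type u} [Field k] {G X : Over (Spec (CommRingCat.of k))} [GrpObj G] (a : AlgGrp.Action G X)
  (hΦ : Surjective (lift a.act (snd G X)).left) (x : 𝟙_ (Over (Spec (CommRingCat.of k))) ⟶ X)

omit [GrpObj G] in
theorem rational_point_eq {T : Over (Spec (CommRingCat.of k))} [IsReduced T.left] (t : T ⟶ X)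
    (h : ∀ r, t.left r = x.left (IsLocalRing.closedPoint k)) : t = toUnit T ≫ x := by
  haveI : IsClosedImmersion x.left := isClosedImmersion_of_comp_eq_id X.hom x.left (Over.w x)
  obtain ⟨l, hl⟩ := Chev.exists_lift_range x t (by rintro _ ⟨r, rfl⟩; exact ⟨_, (h r).symm⟩)
  rw [← hl, toUnit_unique l (toUnit T)]

theorem comp_orbitMap {T : Over (Spec (CommRingCat.of k))} (g : T ⟶ G) :
    g ≫ a.orbitMap x = lift g (toUnit T ≫ x) ≫ a.act := by
  rw [AlgGrp.Action.orbitMap, comp_lift_assoc, Category.comp_id, ← Category.assoc g, comp_toUnit]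

include hΦ in
/-- The orbit map of a rational point is surjective. -/
theorem surjective_orbitMap : Surjective (a.orbitMap x).left := by
  refine ⟨fun y => ?_⟩
  let T : Over (Spec (CommRingCat.of k)) := Over.mk (X.left.fromSpecResidueField y ≫ X.hom)
  let yT : T ⟶ X := Over.homMk (X.left.fromSpecResidueField y) rfl
  obtain ⟨r₀⟩ : Nonempty (Spec (X.left.residueField y)) := inferInstance
  obtain ⟨T₁, q, t, r₁, ht, -⟩ := FieldHom.exists_lift_point (lift a.act (snd G X)) (lift yT (toUnit T ≫ x)) r₀
    (hΦ.surj _)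
  obtain ⟨T', p, r', hr, -⟩ := GenSub.exists_point T₁ r₁
  haveI := hr
  have h1 : (t ≫ fst G X) ≫ a.orbitMap x = q ≫ yT := by
    have hs : t ≫ snd G X = toUnit T₁ ≫ x := by
      have := congrArg (· ≫ snd X X) ht
      simpa using this
    have ha : t ≫ a.act = q ≫ yT := by
      have := congrArg (· ≫ fst X X) ht
      simpa using this
    rw [comp_orbitMap, ← ha]
    congr 1
    apply CartesianMonoidalCategory.hom_ext
    · simp
    · rw [lift_snd, hs]
  refine ⟨((t ≫ fst G X)).left r₁, ?_⟩
  rw [← Scheme.Hom.comp_apply, ← Over.comp_left, h1, Over.comp_left, Scheme.Hom.comp_apply]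
  exact Set.mem_singleton_iff.mp ((Scheme.range_fromSpecResidueField y).le ⟨_, rfl⟩)

end field

section algClosed

variable {L : Type u} [Field L] [IsAlgClosed L] {G X : Over (Spec (CommRingCat.of L))} [GrpObj G]
  (a : AlgGrp.Action G X)

/-- The orbit map of a rational point of a homogeneous space lifts generizations. -/
theorem generalizingMap_orbitMap (hΦ : Surjective (lift a.act (snd G X)).left)
    (x : 𝟙_ (Over (Spec (CommRingCat.of L))) ⟶ X) : GeneralizingMap (a.orbitMap x).left := by
  obtain ⟨R, iR, j, hj, hjc, hjs, hR⟩ := FieldHom.exists_reduced_subgroup G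
  haveI := hj; haveI := hjc; haveI := hjs; haveI := hR
  let Z : TopologicalSpace.Closeds X.left := ⊤
  let 𝒥 := Scheme.IdealSheafData.vanishingIdeal Z
  let Y : Over (Spec (CommRingCat.of L)) := Over.mk (𝒥.subschemeι ≫ X.hom)
  let jY : Y ⟶ X := Over.homMk 𝒥.subschemeι rfl
  haveI : IsReduced Y.left := H23.RedSub.isReduced_vanishingIdeal Z
  haveI : IsClosedImmersion jY.left := inferInstanceAs (IsClosedImmersion 𝒥.subschemeι)
  haveI : Mono jY := (Over.forget _).mono_of_mono_map (inferInstanceAs (Mono jY.left))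
  haveI : Surjective jY.left := ⟨fun x => (H23.RedSub.range_vanishingIdeal Z).ge (Set.mem_univ x)⟩
  haveI : IsReduced (R ⊗ Y).left := GrpSchLib.isReduced_pullback_of_perfectField R.hom Y.hom
  haveI : IsReduced (𝟙_ (Over (Spec (CommRingCat.of L)))).left := inferInstanceAs (IsReduced (Spec (CommRingCat.of L)))
  have hl : ∀ {T : Over (Spec (CommRingCat.of L))} [IsReduced T.left] (g : T ⟶ X), ∃ h, h ≫ jY = g := by
    intro T _ g
    obtain ⟨l, hl⟩ := H23.RedSub.exists_lift_closed g.left jY.left fun y _ => jY.left.surjective y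
    exact ⟨Over.homMk l (by rw [← Over.w jY, reassoc_of% hl, Over.w g]), Over.OverMorphism.ext hl⟩
  obtain ⟨act, hact⟩ := hl ((j ⊗ₘ jY) ≫ a.act)
  obtain ⟨y, hy⟩ := hl x
  have hact' : ∀ {T : Over (Spec (CommRingCat.of L))} (g : T ⟶ R) (z : T ⟶ Y),
      (lift g z ≫ act) ≫ jY = lift (g ≫ j) (z ≫ jY) ≫ a.act := fun g z => by
    rw [Category.assoc, hact, ← Category.assoc, lift_map]
  let b : AlgGrp.Action R Y := mkAction act
    (fun z => by rw [← cancel_mono jY, hact', MonObj.one_comp, GrpSchLib.act_one])
    (fun g h z => by rw [← cancel_mono jY, hact', hact', GrpSchLib.act_mul, hact', MonObj.mul_comp])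
  have hb : b.orbitMap y ≫ jY = j ≫ a.orbitMap x := by
    rw [AlgGrp.Action.orbitMap, show b.act = act from rfl, hact', comp_orbitMap, Category.id_comp, Category.assoc, hy]
  have hbl : (b.orbitMap y).left ≫ jY.left = j.left ≫ (a.orbitMap x).left := by
    rw [← Over.comp_left, hb, Over.comp_left]
  -- the reduced orbit map is surjective and flat
  have hsur : Function.Surjective (b.orbitMap y).left := fun z => by
    obtain ⟨g, hg⟩ := (surjective_orbitMap a hΦ x).surj (jY.left z)
    obtain ⟨r, rfl⟩ := j.left.surjective g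
    refine ⟨r, jY.left.isClosedEmbedding.injective ?_⟩
    rw [← Scheme.Hom.comp_apply, hbl]
    exact hg
  haveI : Flat R.hom := AssLib.flat_over_field R.hom
  obtain ⟨z, hz, -⟩ := GrpSchLib.exists_isMaxPt (y.left (IsLocalRing.closedPoint L))
  obtain ⟨g, hg⟩ := hsur z
  have hflat : ((b.orbitMap y).left.stalkMap g).hom.Flat := by
    have hd : ringKrullDim (Y.left.presheaf.stalk ((b.orbitMap y).left g)) = 0 := by
      rw [ringKrullDim_stalk_eq_coheight]
      simp only [WithBot.coe_eq_zero, Order.coheight_eq_zero]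
      intro w hw
      exact le_of_eq (hg.symm ▸ hz w (hg ▸ hw))
    haveI : Ring.KrullDimLE 0 (Y.left.presheaf.stalk ((b.orbitMap y).left g)) :=
      Ring.krullDimLE_iff.2 (by simpa using hd.le)
    have hF : IsField (Y.left.presheaf.stalk ((b.orbitMap y).left g)) := Ring.KrullDimLE.isField_of_isReduced
    algebraize [((b.orbitMap y).left.stalkMap g).hom]
    letI := hF.toField
    exact (inferInstance : Module.Flat (Y.left.presheaf.stalk ((b.orbitMap y).left g)) (R.left.presheaf.stalk g))
  haveI : Flat (b.orbitMap y).left := Groth.Agent.S5347.result L R Y b y ⟨g, hflat⟩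
  have hgen : GeneralizingMap (b.orbitMap y).left := Flat.generalizingMap _
  intro g₀ y' hy'
  obtain ⟨r, rfl⟩ := j.left.surjective g₀
  obtain ⟨z', rfl⟩ := jY.left.surjective y'
  rw [← Scheme.Hom.comp_apply, ← hbl, Scheme.Hom.comp_apply] at hy'
  obtain ⟨r', hr', hr''⟩ := hgen (jY.left.isClosedEmbedding.isInducing.specializes_iff.mp hy')
  refine ⟨j.left r', hr'.map j.left.continuous, ?_⟩
  rw [← Scheme.Hom.comp_apply, ← hbl, Scheme.Hom.comp_apply, hr'']

end algClosed

end

end Groth.Agent.Deform.Homogeneous
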