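import Groth.Agent.Deform.Homogeneous.Translate
import Groth.Agent.Deform.QuasiSection.Main

/-!
# Quasi-sections translating finitely many points of a fibre into an open subset
-/

set_option autoImplicit false

universe u

open CategoryTheory CategoryTheory.Limits MonoidalCategory CartesianMonoidalCategory MonObj GrpObj AlgebraicGeometry

attribute [local instance] CategoryTheory.Hom.monoid CategoryTheory.Hom.group
set_option linter.style.haveILetI false

namespace Groth.Agent.Deform.Homogeneous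

set_option maxHeartbeats 800000 in
/-- A quasi-section of `G` through a point translating a finite set of points of a fibre into an open subset
containing the maximal points of that fibre. -/
theorem exists_quasiSection_translating {S : Scheme.{u}} {G X : Over S} [GrpObj G]
    [LocallyOfFinitePresentation G.hom]
    (hGo : ∃ W : G.left.Opens, (∀ p : ↥(𝟙_ (Over S)).left, η[G].left.base p ∈ W) ∧ UniversallyOpen (W.ι ≫ G.hom))
    (a : AlgGrp.Action G X) (hΦ : Surjective (lift a.act (snd G X)).left)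
    (U : X.left.Opens) (s : S)
    (hU : ∀ c : (Red.bc (S.fromSpecResidueField s) X).left, GrpSchLib.IsMaxPt c →
      pullback.fst X.hom (S.fromSpecResidueField s) c ∈ U)
    (A : Set X.left) (hA : A.Finite) (hAs : A ⊆ X.hom.base ⁻¹' {s}) :
    ∃ (S' S'' : Scheme.{u}) (w : S' ⟶ S) (π : S'' ⟶ S') (h : Over.mk (π ≫ w) ⟶ G),
      Etale w ∧ IsFinite π ∧ Surjective π ∧ (∃ s₀ : S'', (π ≫ w).base ⁻¹' {s} = {s₀}) ∧
      ∀ z : ↥(X ⊗ Over.mk (π ≫ w)).left, (fst X (Over.mk (π ≫ w))).left.base z ∈ A →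
        (lift (snd X (Over.mk (π ≫ w)) ≫ h) (fst X (Over.mk (π ≫ w))) ≫ a.act).left.base z ∈ U := by
  let σ : Spec (CommRingCat.of (S.residueField s)) ⟶ S := S.fromSpecResidueField s
  let GS := Red.bc σ G
  let XS := Red.bc σ X
  haveI : LocallyOfFiniteType GS.hom := inferInstanceAs (LocallyOfFiniteType (pullback.snd G.hom σ))
  have hrange : ∀ (Y : Over S) (y : Y.left), Y.hom y = s → y ∈ Set.range (pullback.fst Y.hom σ) := fun Y y hy =>
    (Scheme.Hom.range_fiberι Y.hom s).ge hy
  have hemb : ∀ Y : Over S, Topology.IsEmbedding (pullback.fst Y.hom σ) := fun Y => (Y.hom.fiberι s).isEmbedding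
  have hbase : ∀ (Y : Over S) (y : (Red.bc σ Y).left), Y.hom (pullback.fst Y.hom σ y) = s := fun Y y =>
    FibDim.fiber_apply_fiberι Y.hom y
  -- the translating point in the fibre
  let US : XS.left.Opens := pullback.fst X.hom σ ⁻¹ᵁ U
  obtain ⟨g, hgN, hgc, hg⟩ := Deform.Homogeneous.exists_translating_point' (Deform.Homogeneous.bcAction a σ)
    (Deform.Homogeneous.surjective_bcAction a σ hΦ) US hU _ (hA.preimage (hemb X).injective.injOn)
  obtain ⟨x, hgx⟩ : ∃ x : G.left, pullback.fst G.hom σ g = x := ⟨_, rfl⟩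
  have hxs : G.hom x = s := hgx ▸ hbase G g
  have hxN : x ∈ SGA3x.neutralSet G := by
    rw [GrpSchLib.Neutral.neutralSet_bc G σ] at hgN
    exact hgx ▸ hgN
  have hxc : IsClosed ((Subtype.val : ↥(G.hom ⁻¹' {G.hom x}) → G.left) ⁻¹' {x}) := by
    rw [← closure_subset_iff_isClosed]
    intro y hy
    have h1 : x ⤳ y.1 := by
      rw [specializes_iff_mem_closure]
      exact continuous_subtype_val.closure_preimage_subset _ hy
    obtain ⟨g', hg'⟩ := hrange G y.1 (y.2.trans hxs)
    rw [← hg', ← hgx, (hemb G).isInducing.specializes_iff] at h1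
    have h2 : g' = g := h1.mem_closed hgc rfl
    show y.1 = x
    rw [← hg', h2, hgx]
  -- the generic point of the neutral component and universal openness there
  obtain ⟨ζ, hζs, hζN, hζ⟩ := Deform.Neutral.exists_generic_neutral (G := G) s
  have hζmax : FibDim.FibMax G.hom ζ := by
    intro z hz hzs
    obtain ⟨z', rfl⟩ := hrange G z (hzs.trans hζs)
    obtain ⟨c, rfl⟩ := hrange G ζ hζs
    have hzN : z' ∈ SGA3x.neutralSet GS := by
      have hcN : c ∈ SGA3x.neutralSet GS := by
        rw [GrpSchLib.Neutral.neutralSet_bc G σ]; exact hζN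
      rw [Deform.Neutral.neutralSet_field GS] at hcN ⊢
      rw [_root_.connectedComponent_eq hcN]
      have h := isPreconnected_singleton.closure.subset_connectedComponent
        (specializes_iff_mem_closure.mp ((hemb G).isInducing.specializes_iff.mp hz))
      exact h (subset_closure rfl)
    rw [GrpSchLib.Neutral.neutralSet_bc G σ] at hzN
    exact (hz.antisymm (hζ _ hzN (hbase G z'))).eq
  obtain ⟨W₀, hW₀, hW₀o⟩ := hGo
  have hopen : EGA43.IsUnivOpenAt G.hom ζ := by
    have hu : GrpSchLib.Neutral.unit G s ∈ W₀ := hW₀ _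
    obtain ⟨w, hw⟩ : ∃ w : W₀.toScheme, W₀.ι w = ζ :=
      ⟨⟨ζ, (hζ _ (GrpSchLib.Neutral.unit_mem_neutralSet G s) (GrpSchLib.Neutral.hom_unit G s)).mem_open W₀.isOpen hu⟩, rfl⟩
    exact hw ▸ S4926.result W₀.ι G.hom w ((UnivOpen.universallyOpen_iff_forall (W₀.ι ≫ G.hom)).mp hW₀o w)
  have hW : topologicalKrullDim ↥(((⊤ : G.left.Opens) : Set G.left) ∩ G.hom ⁻¹' {G.hom x}) ≤
      (FibDim.rd G.hom ζ : WithBot ℕ∞) := by
    rw [TopologicalSpace.Opens.coe_top, Set.univ_inter, hxs]
    refine le_of_eq ?_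
    rw [← hζs]
    exact (GrpSchLib.FibreDimGrp.fibreDimAt_eq G ζ).symm.trans (FibDim.fibreDimAt_eq_rd G.hom hζmax)
  obtain ⟨S', S'', -, w, π, h, hwe, hπf, hπs, -, hh, s'', hs'', hhs, -⟩ :=
    Deform.QuasiSection.exists_quasiSection G.hom x ζ hxc (FibDim.rd G.hom ζ) ⊤ trivial hW (hζ x hxN hxs)
      (hζs.trans hxs.symm) hζmax rfl hopen
  refine ⟨S', S'', w, π, Over.homMk h hh, hwe, hπf, hπs, ⟨s'', by rw [← hxs]; exact hs''⟩, fun z hz => ?_⟩
  let T := Over.mk (π ≫ w)
  let m : X ⊗ T ⟶ G ⊗ X := lift (snd X T ≫ Over.homMk h hh) (fst X T)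
  let p : (G ⊗ X).left := m.left z
  have hqs : (snd X T).left z = s'' := by
    have h1 : T.hom ((snd X T).left z) = X.hom ((fst X T).left z) := by
      rw [← Scheme.Hom.comp_apply, ← Scheme.Hom.comp_apply, Over.w, Over.w]
    have h2 : (π ≫ w) ((snd X T).left z) = G.hom x := h1.trans ((hAs hz).trans hxs.symm)
    exact hs''.le h2
  have hp1 : (fst G X).left p = x := by
    rw [← Scheme.Hom.comp_apply, ← Over.comp_left, lift_fst, Over.comp_left, Scheme.Hom.comp_apply, hqs]
    exact hhs
  have hp2 : (snd G X).left p = (fst X T).left z := by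
    rw [← Scheme.Hom.comp_apply, ← Over.comp_left, lift_snd]
  show (m ≫ a.act).left z ∈ U
  rw [Over.comp_left, Scheme.Hom.comp_apply]
  show a.act.left p ∈ U
  obtain ⟨pp, hpp⟩ := hrange (G ⊗ X) p (by rw [← Over.w (fst G X), Scheme.Hom.comp_apply, hp1, hxs])
  let p' : (Red.bc σ G ⊗ Red.bc σ X).left := (Functor.Monoidal.μIso (Over.pullback σ) G X).inv.left pp
  have hμp : (Functor.LaxMonoidal.μ (Over.pullback σ) G X).left p' = pp := by
    rw [← Functor.Monoidal.μIso_hom, ← Scheme.Hom.comp_apply, ← Over.comp_left, Iso.inv_hom_id]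
    rfl
  have hfst : ∀ {Y : Over S} (q : G ⊗ X ⟶ Y), pullback.fst Y.hom σ
      ((Functor.LaxMonoidal.μ (Over.pullback σ) G X ≫ (Over.pullback σ).map q).left p') = q.left p := fun q => by
    rw [Over.comp_left, Scheme.Hom.comp_apply, hμp, ← Scheme.Hom.comp_apply, Deform.Homogeneous.fst_map_hom σ q,
      Scheme.Hom.comp_apply, hpp]
  have hf1 : (fst GS XS).left p' = g := (hemb G).injective (by
    have := hfst (fst G X)
    rw [Functor.Monoidal.μ_fst, hp1] at this
    exact this.trans hgx.symm)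
  have hf2 : pullback.fst X.hom σ ((snd GS XS).left p') ∈ A := by
    have := hfst (snd G X)
    rw [Functor.Monoidal.μ_snd, hp2] at this
    exact this ▸ hz
  have h3 := hg p' hf1 hf2
  exact hfst a.act ▸ h3

end Groth.Agent.Deform.Homogeneous
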