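import Groth.Agent.Deform.Homogeneous.QuasiTranslate

/-!
# Separatedness and quasi-compactness of homogeneous spaces with connected fibres (VI_B 5.3, 5.4)
-/

set_option autoImplicit false

universe u

open CategoryTheory CategoryTheory.Limits MonoidalCategory CartesianMonoidalCategory MonObj GrpObj AlgebraicGeometry

attribute [local instance] CategoryTheory.Hom.monoid CategoryTheory.Hom.group
set_option linter.style.haveILetI false
set_option linter.unusedSectionVars false

namespace Groth.Agent.Deform.Homogeneous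

noncomputable section

open GrpSchLib

variable {S : Scheme.{u}} {G X : Over S}

/-- The diagonal as a morphism over the base. -/
def diag (X : Over S) : X ⟶ X ⊗ X := lift (𝟙 X) (𝟙 X)

/-- The image of a whiskered morphism. -/
theorem range_whiskerRight {A B : Over S} (f : A ⟶ B) (Z : Over S) :
    Set.range (f ▷ Z).left = (fst B Z).left ⁻¹' Set.range f.left := by
  rw [Over.whiskerRight_left]
  refine (Scheme.Pullback.range_map _ _ _ _ _ _ _ _ _).trans ?_
  rw [show Set.range (𝟙 Z.left : Z.left ⟶ Z.left) = Set.univ from Set.eq_univ_of_forall fun w => ⟨w, rfl⟩,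
    Set.preimage_univ, Set.inter_univ]
  rfl

/-- A point of the closure of the diagonal over a separated open subset lies on the diagonal. -/
theorem mem_range_diag_of_mem_closure {U : X.left.Opens} [IsSeparated (U.ι ≫ X.hom)] {p : (X ⊗ X).left}
    (hp : p ∈ closure (Set.range (diag X).left)) (h1 : (fst X X).left p ∈ U) (h2 : (snd X X).left p ∈ U) :
    p ∈ Set.range (diag X).left := by
  let UX : Over S := Over.mk (U.ι ≫ X.hom)
  let jU : UX ⟶ X := Over.homMk U.ι rfl
  let J : UX ⊗ UX ⟶ X ⊗ X := jU ⊗ₘ jU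
  haveI : IsOpenImmersion jU.left := inferInstanceAs (IsOpenImmersion U.ι)
  haveI hJ : IsOpenImmersion J.left := by
    rw [Over.tensorHom_left]; infer_instance
  haveI : IsClosedImmersion (diag UX).left := IsSeparated.isClosedImmersion_diagonal (f := U.ι ≫ X.hom)
  have hcomm : diag UX ≫ J = jU ≫ diag X := by
    apply CartesianMonoidalCategory.hom_ext <;> simp [diag, J]
  have hdiag : ∀ x, (fst X X).left ((diag X).left x) = x := fun x => by
    rw [← Scheme.Hom.comp_apply, ← Over.comp_left, show diag X ≫ fst X X = 𝟙 X from lift_fst _ _]; rfl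
  have hmap : ∀ u, J.left ((diag UX).left u) = (diag X).left (U.ι u) := fun u => by
    rw [← Scheme.Hom.comp_apply, ← Over.comp_left, hcomm, Over.comp_left, Scheme.Hom.comp_apply]; rfl
  obtain ⟨v, rfl⟩ : p ∈ Set.range J.left := by
    rw [Over.tensorHom_left]
    refine (Scheme.Pullback.range_map _ _ _ _ _ _ _ _ _).ge ⟨?_, ?_⟩
    · show (fst X X).left p ∈ Set.range U.ι
      rw [Scheme.Opens.range_ι]; exact h1
    · show (snd X X).left p ∈ Set.range U.ι
      rw [Scheme.Opens.range_ι]; exact h2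
  have hv : v ∈ closure (J.left ⁻¹' Set.range (diag X).left) :=
    J.left.isOpenEmbedding.isOpenMap.preimage_closure_subset_closure_preimage hp
  have hsub : J.left ⁻¹' Set.range (diag X).left ⊆ Set.range (diag UX).left := by
    rintro z ⟨x, hx⟩
    have hxU : x ∈ U := by
      have : (fst X X).left (J.left z) = U.ι ((fst UX UX).left z) := by
        rw [← Scheme.Hom.comp_apply, ← Over.comp_left, tensorHom_fst]; rfl
      rw [← hx, hdiag] at this
      exact this ▸ ((fst UX UX).left z).2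
    exact ⟨⟨x, hxU⟩, J.left.isOpenEmbedding.injective ((hmap _).trans hx)⟩
  obtain ⟨u, rfl⟩ := closure_minimal hsub (diag UX).left.isClosedEmbedding.isClosed_range hv
  exact ⟨U.ι u, (hmap u).symm⟩

variable [GrpObj G] (a : AlgGrp.Action G X)

/-- A point of the closure of the diagonal is on the diagonal as soon as translates of its coordinates lie in a
separated open subset. -/
theorem mem_range_diag_of_translate {T : Over S} (h : T ⟶ G) {U : X.left.Opens} [IsSeparated (U.ι ≫ X.hom)]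
    {q : ((X ⊗ X) ⊗ T).left} (hq : q ∈ closure (Set.range (diag X ▷ T).left))
    (h1 : ((fst X X ▷ T) ≫ lift (snd X T ≫ h) (fst X T) ≫ a.act).left q ∈ U)
    (h2 : ((snd X X ▷ T) ≫ lift (snd X T ≫ h) (fst X T) ≫ a.act).left q ∈ U) :
    q ∈ Set.range (diag X ▷ T).left := by
  let m : (T ⟶ G) → (X ⊗ T ⟶ X) := fun h => lift (snd X T ≫ h) (fst X T) ≫ a.act
  let Ψ : (T ⟶ G) → ((X ⊗ X) ⊗ T ⟶ (X ⊗ X) ⊗ T) := fun h =>
    lift (lift ((fst X X ▷ T) ≫ m h) ((snd X X ▷ T) ≫ m h)) (snd (X ⊗ X) T)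
  let τ : X ⊗ T ⟶ X ⊗ T := lift (m h) (snd X T)
  have hm : ∀ (Z : Over S) (g : T ⟶ G) (x : Z ⟶ X) (t : Z ⟶ T), lift x t ≫ m g = lift (t ≫ g) x ≫ a.act := by
    intro Z g x t
    show lift x t ≫ lift (snd X T ≫ g) (fst X T) ≫ a.act = _
    rw [comp_lift_assoc, lift_snd_assoc, lift_fst]
  have hΨ : ∀ g k : T ⟶ G, g * k = 1 → Ψ k ≫ Ψ g = 𝟙 _ := by
    intro g k hgk
    have e : ∀ q : X ⊗ X ⟶ X, (lift (lift ((fst X X ▷ T) ≫ m k) ((snd X X ▷ T) ≫ m k) ≫ q) (snd (X ⊗ X) T)) ≫ m g =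
        lift (snd _ T ≫ g) (lift ((fst X X ▷ T) ≫ m k) ((snd X X ▷ T) ≫ m k) ≫ q) ≫ a.act := fun q => hm _ _ _ _
    have hw : ∀ q : X ⊗ X ⟶ X, Ψ k ≫ (q ▷ T) =
        lift (lift ((fst X X ▷ T) ≫ m k) ((snd X X ▷ T) ≫ m k) ≫ q) (snd (X ⊗ X) T) := fun q => by
      apply CartesianMonoidalCategory.hom_ext <;> simp [Ψ]
    have hr : ∀ q : X ⊗ X ⟶ X, (q ▷ T) ≫ m k = lift (snd _ T ≫ k) (fst _ T ≫ q) ≫ a.act := fun q => by
      rw [show q ▷ T = lift (fst _ T ≫ q) (snd _ T) by apply CartesianMonoidalCategory.hom_ext <;> simp, hm]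
    have key : ∀ q : X ⊗ X ⟶ X, lift ((fst X X ▷ T) ≫ m k) ((snd X X ▷ T) ≫ m k) ≫ q = (q ▷ T) ≫ m k →
        (Ψ k ≫ (q ▷ T)) ≫ m g = fst _ T ≫ q := fun q hq' => by
      rw [hw, e, hq', hr, GrpSchLib.act_mul, ← MonObj.comp_mul, hgk, MonObj.comp_one, GrpSchLib.act_one]
    apply CartesianMonoidalCategory.hom_ext
    · rw [Category.id_comp]
      apply CartesianMonoidalCategory.hom_ext
      · have := key (fst X X) (lift_fst _ _)
        simpa [Ψ] using this
      · have := key (snd X X) (lift_snd _ _)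
        simpa [Ψ] using this
    · simp [Ψ]
  haveI : IsIso (Ψ h) := ⟨Ψ h⁻¹, hΨ _ _ (inv_mul_cancel h), hΨ _ _ (mul_inv_cancel h)⟩
  haveI : IsIso (Ψ h).left := inferInstanceAs (IsIso ((Over.forget _).map (Ψ h)))
  have hcomm : (diag X ▷ T) ≫ Ψ h = τ ≫ (diag X ▷ T) := by
    apply CartesianMonoidalCategory.hom_ext
    · apply CartesianMonoidalCategory.hom_ext <;>
        simp [Ψ, τ, diag, ← MonoidalCategory.comp_whiskerRight_assoc]
    · simp [Ψ, τ]
  have hinto : Set.MapsTo (Ψ h).left (Set.range (diag X ▷ T).left) (Set.range (diag X ▷ T).left) := by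
    rintro _ ⟨z, rfl⟩
    refine ⟨τ.left z, ?_⟩
    rw [← Scheme.Hom.comp_apply, ← Scheme.Hom.comp_apply, ← Over.comp_left, ← Over.comp_left, hcomm]
  have hcl := map_mem_closure (Ψ h).left.continuous hq hinto
  have hd : (fst (X ⊗ X) T).left ((Ψ h).left q) ∈ Set.range (diag X).left := by
    refine mem_range_diag_of_mem_closure (U := U)
      (map_mem_closure (fst (X ⊗ X) T).left.continuous hcl fun z hz => (range_whiskerRight (diag X) T).le hz) ?_ ?_
    · rw [← Scheme.Hom.comp_apply, ← Scheme.Hom.comp_apply, ← Over.comp_left, ← Over.comp_left]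
      rwa [show Ψ h ≫ fst (X ⊗ X) T ≫ fst X X = (fst X X ▷ T) ≫ m h by simp [Ψ]]
    · rw [← Scheme.Hom.comp_apply, ← Scheme.Hom.comp_apply, ← Over.comp_left, ← Over.comp_left]
      rwa [show Ψ h ≫ fst (X ⊗ X) T ≫ snd X X = (snd X X ▷ T) ≫ m h by simp [Ψ]]
  obtain ⟨z, hz⟩ := (range_whiskerRight (diag X) T).ge hd
  have hcomm' : (diag X ▷ T) ≫ Ψ h⁻¹ = lift (m h⁻¹) (snd X T) ≫ (diag X ▷ T) := by
    apply CartesianMonoidalCategory.hom_ext
    · apply CartesianMonoidalCategory.hom_ext <;>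
        simp [Ψ, diag, ← MonoidalCategory.comp_whiskerRight_assoc]
    · simp [Ψ]
  refine ⟨(lift (m h⁻¹) (snd X T)).left z, ?_⟩
  rw [← Scheme.Hom.comp_apply, ← Over.comp_left, ← hcomm', Over.comp_left, Scheme.Hom.comp_apply, hz,
    ← Scheme.Hom.comp_apply, ← Over.comp_left, hΨ _ _ (inv_mul_cancel h)]
  rfl

section

variable [LocallyOfFinitePresentation G.hom]
  (hGo : ∃ W : G.left.Opens, (∀ p : ↥(𝟙_ (Over S)).left, η[G].left.base p ∈ W) ∧ UniversallyOpen (W.ι ≫ G.hom))
  (hΦ : Surjective (lift a.act (snd G X)).left)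
  (hqs : ∀ s : S, QuasiSeparatedSpace ↥(X.hom.base ⁻¹' {s}))
  (hconn : ∀ s : S, _root_.IsPreconnected (X.hom.base ⁻¹' {s}))

include hΦ hqs hconn in
theorem mem_of_isMaxPt_fibre (s : S) (U : X.left.Opens) (hU : ((U : Set X.left) ∩ X.hom ⁻¹' {s}).Nonempty)
    {c : (Red.bc (S.fromSpecResidueField s) X).left} (hc : IsMaxPt c) :
    pullback.fst X.hom (S.fromSpecResidueField s) c ∈ U := by
  let e := X.hom.fiberHomeo s
  haveI := hqs s
  haveI : PreconnectedSpace ↥(X.hom ⁻¹' {s}) := isPreconnected_iff_preconnectedSpace.mp (hconn s)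
  haveI : QuasiSeparatedSpace (Red.bc (S.fromSpecResidueField s) X).left :=
    QuasiSeparatedSpace.of_isOpenEmbedding (f := e) e.isOpenEmbedding
  haveI : PreconnectedSpace (Red.bc (S.fromSpecResidueField s) X).left :=
    e.symm.surjective.denseRange.preconnectedSpace e.symm.continuous
  let σ : Spec (CommRingCat.of (S.residueField s)) ⟶ S := S.fromSpecResidueField s
  haveI : LocallyOfFiniteType (Red.bc σ G).hom := inferInstanceAs (LocallyOfFiniteType (pullback.snd G.hom σ))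
  refine mem_of_isMaxPt (bcAction a σ) (surjective_bcAction a σ hΦ) (pullback.fst X.hom σ ⁻¹ᵁ U) ?_ hc
  obtain ⟨x, hxU, hxs⟩ := hU
  obtain ⟨y, rfl⟩ : x ∈ Set.range (pullback.fst X.hom (S.fromSpecResidueField s)) :=
    (Scheme.Hom.range_fiberι X.hom s).ge hxs
  exact ⟨y, hxU⟩

include hGo hΦ hqs hconn in
theorem isSeparated : IsSeparated X.hom := by
  refine ⟨IsClosedImmersion.of_isPreimmersion (pullback.diagonal X.hom) ?_⟩
  show IsClosed (Set.range (diag X).left)
  refine closure_subset_iff_isClosed.mp fun p hp => ?_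
  obtain ⟨s, hs⟩ : ∃ s : S, (X ⊗ X).hom p = s := ⟨_, rfl⟩
  have hp1 : X.hom ((fst X X).left p) = s := by
    rw [← Scheme.Hom.comp_apply, Over.w]; exact hs
  have hp2 : X.hom ((snd X X).left p) = s := by
    rw [← Scheme.Hom.comp_apply, Over.w]; exact hs
  obtain ⟨U, hU, hpU, -⟩ := exists_isAffineOpen_mem_and_subset
    (show (fst X X).left p ∈ (⊤ : X.left.Opens) from trivial)
  haveI : IsAffine U.toScheme := hU
  haveI : IsSeparated (U.ι ≫ X.hom) := inferInstance
  obtain ⟨S', S'', w, π, h, hw, hπf, hπs, ⟨s₀, hs₀⟩, hA⟩ :=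
    exists_quasiSection_translating hGo a hΦ U s
      (fun c hc => mem_of_isMaxPt_fibre a hΦ hqs hconn s U ⟨_, hpU, hp1⟩ hc)
      {(fst X X).left p, (snd X X).left p} (Set.toFinite _)
      (by rintro x (rfl | rfl) <;> assumption)
  let T := Over.mk (π ≫ w)
  let T' := Over.mk w
  let πT : T ⟶ T' := Over.homMk π rfl
  haveI : UniversallyOpen (fst (X ⊗ X) T').left := inferInstanceAs (UniversallyOpen (pullback.fst (X ⊗ X).hom w))
  obtain ⟨p', hp', -⟩ := Scheme.Pullback.exists_preimage_pullback (f := (X ⊗ X).hom) (g := w) p (π s₀) (by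
    rw [hs, ← Scheme.Hom.comp_apply]
    exact ((hs₀.ge rfl : (π ≫ w) s₀ = s)).symm)
  have h1 : p' ∈ closure (Set.range (diag X ▷ T').left) := by
    rw [range_whiskerRight]
    exact (fst (X ⊗ X) T').left.isOpenMap.preimage_closure_subset_closure_preimage
      (show (fst (X ⊗ X) T').left p' ∈ _ from hp'.symm ▸ hp)
  let b := ((X ⊗ X) ◁ πT).left
  have hfb : (fst (X ⊗ X) T).left = b ≫ (fst (X ⊗ X) T').left :=
    ((Over.comp_left _ _ _ ((X ⊗ X) ◁ πT) (fst (X ⊗ X) T')).symm.trans (congrArg CommaMorphism.left (whiskerLeft_fst _ _))).symm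
  have hsq : IsPullback b (snd (X ⊗ X) T).left (snd (X ⊗ X) T').left π := by
    refine (IsPullback.of_bot (h₂₁ := (snd (X ⊗ X) T').left) (v₁₁ := b) ?_ ?_ (IsPullback.of_hasPullback (X ⊗ X).hom w).flip).flip
    · rw [show b ≫ pullback.fst (X ⊗ X).hom w = (fst (X ⊗ X) T).left from hfb.symm]
      exact (IsPullback.of_hasPullback (X ⊗ X).hom (π ≫ w)).flip
    · exact (((Over.comp_left _ _ _ ((X ⊗ X) ◁ πT) (snd (X ⊗ X) T')).symm.trans (congrArg CommaMorphism.left (whiskerLeft_snd _ _))).trans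
        (Over.comp_left _ _ _ (snd (X ⊗ X) T) πT)).symm
  haveI : IsFinite b := MorphismProperty.of_isPullback hsq.flip hπf
  haveI : Surjective b := MorphismProperty.of_isPullback hsq.flip hπs
  have himg : Set.range (diag X ▷ T').left ⊆ b '' Set.range (diag X ▷ T).left := by
    intro y hy
    obtain ⟨z, rfl⟩ := b.surjective y
    refine ⟨z, ?_, rfl⟩
    rw [range_whiskerRight] at hy ⊢
    rw [Set.mem_preimage, hfb, Scheme.Hom.comp_apply]
    exact hy
  obtain ⟨q, hq, hqp⟩ : p' ∈ b '' closure (Set.range (diag X ▷ T).left) :=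
    closure_minimal (himg.trans (Set.image_mono subset_closure)) (b.isClosedMap _ isClosed_closure) h1
  have hqp' : (fst (X ⊗ X) T).left q = p := by
    rw [hfb, Scheme.Hom.comp_apply, hqp]; exact hp'
  have hfst : ∀ r : X ⊗ X ⟶ X, (fst X T).left ((r ▷ T).left q) = r.left p := fun r => by
    rw [← Scheme.Hom.comp_apply, ← Over.comp_left, whiskerRight_fst, Over.comp_left, Scheme.Hom.comp_apply, hqp']
  have hU' : ∀ r : X ⊗ X ⟶ X, r.left p ∈ ({(fst X X).left p, (snd X X).left p} : Set X.left) →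
      ((r ▷ T) ≫ lift (snd X T ≫ h) (fst X T) ≫ a.act).left q ∈ U := fun r hr => by
    rw [Over.comp_left, Scheme.Hom.comp_apply]
    exact hA _ (show (fst X T).left ((r ▷ T).left q) ∈ _ from (hfst r).symm ▸ hr)
  have hmem := mem_range_diag_of_translate a h hq (hU' (fst X X) (Or.inl rfl)) (hU' (snd X X) (Or.inr rfl))
  rw [range_whiskerRight, Set.mem_preimage, hqp'] at hmem
  exact hmem

include hΦ hqs hconn in
theorem quasiCompact (hV : ∃ V : X.left.Opens, QuasiCompact (V.ι ≫ X.hom) ∧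
    ∀ s : S, (X.hom.base ⁻¹' {s}).Nonempty → ((V : Set X.left) ∩ X.hom.base ⁻¹' {s}).Nonempty) :
    QuasiCompact X.hom := by
  obtain ⟨V, hVc, hVs⟩ := hV
  refine (quasiCompact_iff_forall_isAffineOpen).mpr fun S₀ hS₀ => ?_
  -- a quasi-compact piece of the group along the unit section
  let e := Neutral.unit G
  have hcov : ∀ t ∈ (S₀ : Set S), ∃ O : G.left.Opens, IsCompact (O : Set G.left) ∧ e t ∈ O ∧ O ≤ G.hom ⁻¹ᵁ S₀ := by
    intro t ht
    obtain ⟨O, hO, htO, hOS⟩ := exists_isAffineOpen_mem_and_subset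
      (show e t ∈ G.hom ⁻¹ᵁ S₀ from by
        show G.hom (e t) ∈ S₀
        rw [Neutral.hom_unit]; exact ht)
    exact ⟨O, hO.isCompact, htO, hOS⟩
  choose O hO using hcov
  obtain ⟨F, hF⟩ := hS₀.isCompact.elim_finite_subcover (fun t : ↥(S₀ : Set S) => e ⁻¹' (O t.1 t.2 : Set G.left))
    (fun t => (O t.1 t.2).isOpen.preimage e.continuous) (fun t ht => Set.mem_iUnion.mpr ⟨⟨t, ht⟩, (hO t ht).2.1⟩)
  let W : G.left.Opens := ⟨⋃ t ∈ F, (O t.1 t.2 : Set G.left), isOpen_biUnion fun t _ => (O t.1 t.2).isOpen⟩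
  let V₀ : X.left.Opens := V ⊓ X.hom ⁻¹ᵁ S₀
  have hWc : IsCompact (W : Set G.left) := F.isCompact_biUnion fun t _ => (hO t.1 t.2).1
  have hWS : W ≤ G.hom ⁻¹ᵁ S₀ := by
    intro g hg
    obtain ⟨t, -, hgt⟩ := Set.mem_iUnion₂.mp hg
    exact (hO t.1 t.2).2.2 hgt
  have hVc' : IsCompact (V₀ : Set X.left) := by
    have h := ((quasiCompact_iff_forall_isAffineOpen).mp hVc S₀ hS₀).image V.ι.continuous
    convert h using 1
    ext x
    exact ⟨fun hx => ⟨⟨x, hx.1⟩, hx.2, rfl⟩, by rintro ⟨z, hz, rfl⟩; exact ⟨z.2, hz⟩⟩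
  haveI : IsAffine S₀.toScheme := hS₀
  haveI : CompactSpace W.toScheme := isCompact_iff_compactSpace.mp hWc
  haveI : CompactSpace V₀.toScheme := isCompact_iff_compactSpace.mp hVc'
  let fW : W.toScheme ⟶ S₀.toScheme := G.hom.resLE S₀ W hWS
  let fV : V₀.toScheme ⟶ S₀.toScheme := X.hom.resLE S₀ V₀ inf_le_right
  haveI : QuasiCompact fW := quasiCompact_of_compactSpace fW
  haveI : CompactSpace ↥(pullback fW fV) := QuasiCompact.compactSpace_of_compactSpace (pullback.snd fW fV)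
  let j : pullback fW fV ⟶ (G ⊗ X).left := pullback.map fW fV G.hom X.hom W.ι V₀.ι S₀.ι
    (Scheme.Hom.resLE_comp_ι _ _) (Scheme.Hom.resLE_comp_ι _ _)
  let m : G ⊗ X ⟶ X := lift (fst G X)⁻¹ (snd G X) ≫ a.act
  have hmS : ∀ q : (G ⊗ X).left, X.hom (m.left q) = X.hom ((snd G X).left q) := fun q => by
    rw [← Scheme.Hom.comp_apply, ← Scheme.Hom.comp_apply, Over.w, Over.w]
  have key : X.hom ⁻¹' (S₀ : Set S) = Set.range (j ≫ m.left) := by
    refine subset_antisymm (fun x hx => ?_) ?_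
    · obtain ⟨s, hs⟩ : ∃ s, X.hom x = s := ⟨_, rfl⟩
      let σ : Spec (CommRingCat.of (S.residueField s)) ⟶ S := S.fromSpecResidueField s
      haveI : LocallyOfFiniteType (Red.bc σ G).hom := inferInstanceAs (LocallyOfFiniteType (pullback.snd G.hom σ))
      obtain ⟨x', rfl⟩ : x ∈ Set.range (pullback.fst X.hom σ) := (Scheme.Hom.range_fiberι X.hom s).ge hs
      obtain ⟨Ω, hΩN, hΩ⟩ := exists_open_translating (bcAction a σ) (surjective_bcAction a σ hΦ)
        (pullback.fst X.hom σ ⁻¹ᵁ V₀) (fun c hc => mem_of_isMaxPt_fibre a hΦ hqs hconn s V₀ (by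
          obtain ⟨v, hv, hvs⟩ := hVs s ⟨_, hs⟩
          exact ⟨v, ⟨hv, show X.hom v ∈ S₀ from (hvs : X.hom v = s).symm ▸ hs ▸ hx⟩, hvs⟩) hc) x'
      obtain ⟨g₀, hg₀, hg₀e⟩ := exists_isMaxPt (η[Red.bc σ G].left (IsLocalRing.closedPoint (S.residueField s)))
      have hg₀Ω : g₀ ∈ Ω := by
        obtain ⟨y, hy, hyN⟩ := hΩN
        rw [neutralSet_eq_closure hg₀ hg₀e] at hyN
        exact (specializes_iff_mem_closure.mpr hyN).mem_open Ω.isOpen hy
      let WS : (Red.bc σ G).left.Opens := pullback.fst G.hom σ ⁻¹ᵁ W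
      have hunit : pullback.fst G.hom σ (η[Red.bc σ G].left (IsLocalRing.closedPoint _)) ∈ W := by
        rw [show η[Red.bc σ G].left (IsLocalRing.closedPoint _) = Neutral.unit (Red.bc σ G) (IsLocalRing.closedPoint _) from rfl,
          Neutral.bc_unit, show σ (IsLocalRing.closedPoint (S.residueField s)) = s from Scheme.fromSpecResidueField_apply _ _]
        obtain ⟨t, ht, het⟩ := Set.mem_iUnion₂.mp (hF (show s ∈ S₀ from hs ▸ hx))
        exact Set.mem_iUnion₂.mpr ⟨t, ht, het⟩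
      haveI : JacobsonSpace (Red.bc σ G).left := LocallyOfFiniteType.jacobsonSpace (Red.bc σ G).hom
      obtain ⟨g, hg, hgc⟩ := nonempty_inter_closedPoints
        (show ((Ω : Set (Red.bc σ G).left) ∩ WS).Nonempty from ⟨g₀, hg₀Ω, hg₀e.mem_open WS.isOpen hunit⟩)
        (Ω.isOpen.inter WS.isOpen).isLocallyClosed
      obtain ⟨p, hp1, hp2⟩ := Scheme.Pullback.exists_preimage_pullback (f := (Red.bc σ G).hom) (g := (Red.bc σ X).hom)
        g x' (@Subsingleton.elim (Spec (CommRingCat.of (S.residueField s))) inferInstance _ _)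
      have hpU := hΩ p (show (fst (Red.bc σ G) (Red.bc σ X)).left p ∈ Ω from hp1.symm ▸ hg.1) (hp1.symm ▸ hgc) hp2
      let p₀ : (G ⊗ X).left := pullback.fst (G ⊗ X).hom σ ((Functor.LaxMonoidal.μ (Over.pullback σ) G X).left p)
      have hp₀ : ∀ {Y : Over S} (r : G ⊗ X ⟶ Y), r.left p₀ =
          pullback.fst Y.hom σ ((Functor.LaxMonoidal.μ (Over.pullback σ) G X ≫ (Over.pullback σ).map r).left p) := fun r => by
        rw [Over.comp_left, Scheme.Hom.comp_apply, ← Scheme.Hom.comp_apply _ (pullback.fst _ σ), fst_map_hom σ r,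
          Scheme.Hom.comp_apply]
      let τ : G ⊗ X ⟶ G ⊗ X := lift (fst G X) a.act
      let q := τ.left p₀
      have hτ : τ ≫ m = snd G X := by
        simp only [m, comp_lift_assoc, GrpObj.comp_inv, τ, lift_fst, lift_snd]
        calc lift (fst G X)⁻¹ a.act ≫ a.act = lift (fst G X)⁻¹ (lift (fst G X) (snd G X) ≫ a.act) ≫ a.act := by
              rw [lift_fst_snd, Category.id_comp]
          _ = snd G X := by rw [GrpSchLib.act_mul, inv_mul_cancel, GrpSchLib.act_one]
      obtain ⟨z, hz⟩ : q ∈ Set.range j := by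
        refine (Scheme.Pullback.range_map _ _ _ _ _ _ _ _ _).ge ⟨?_, ?_⟩
        · show (fst G X).left q ∈ Set.range W.ι
          rw [Scheme.Opens.range_ι, ← Scheme.Hom.comp_apply, ← Over.comp_left, lift_fst, hp₀, Functor.Monoidal.μ_fst]
          exact hp1.symm ▸ hg.2
        · show (snd G X).left q ∈ Set.range V₀.ι
          rw [Scheme.Opens.range_ι, ← Scheme.Hom.comp_apply, ← Over.comp_left, lift_snd, hp₀]
          exact hpU
      refine ⟨z, ?_⟩
      rw [Scheme.Hom.comp_apply, hz, ← Scheme.Hom.comp_apply, ← Over.comp_left, hτ, hp₀, Functor.Monoidal.μ_snd]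
      exact congrArg _ hp2
    · rintro _ ⟨z, rfl⟩
      show X.hom ((j ≫ m.left) z) ∈ S₀
      rw [Scheme.Hom.comp_apply, hmS]
      have : (snd G X).left (j z) = V₀.ι (pullback.snd fW fV z) :=
        (Scheme.Hom.comp_apply j (snd G X).left z).symm.trans
          ((congrArg (fun r : pullback fW fV ⟶ X.left => r z) (pullback.lift_snd _ _ _)).trans
            (Scheme.Hom.comp_apply _ _ z))
      rw [this]
      exact (pullback.snd fW fV z).2.2
  show IsCompact (X.hom ⁻¹' (S₀ : Set S))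
  rw [key]
  exact isCompact_range (j ≫ m.left).continuous

end

end

end Groth.Agent.Deform.Homogeneous
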