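import Groth.Agent.Deform.Homogeneous.Comp
import Groth.Agent.FlatDense.Basic
import Groth.Agent.AlgSpDec.EtCompact
import Mathlib.AlgebraicGeometry.AlgClosed.Basic

/-!
# Translating finitely many points into a dense open subset by a closed point of the neutral component
-/

set_option autoImplicit false

universe u

open CategoryTheory CategoryTheory.Limits MonoidalCategory CartesianMonoidalCategory MonObj GrpObj AlgebraicGeometry

attribute [local instance] CategoryTheory.Hom.monoid CategoryTheory.Hom.group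
set_option linter.style.haveILetI false
set_option linter.unusedSectionVars false

namespace Groth.Agent.Deform.Homogeneous

noncomputable section

open GrpSchLib

theorem fst_map_hom {S S' : Scheme.{u}} (σ : S' ⟶ S) {A B : Over S} (g : A ⟶ B) :
    ((Over.pullback σ).map g).left ≫ pullback.fst B.hom σ = pullback.fst A.hom σ ≫ g.left :=
  pullback.lift_fst _ _ _

/-- Over an algebraically closed field, a closed point has one preimage in a field extension. -/
theorem subsingleton_preimage {K L : Type u} [Field K] [IsAlgClosed K] [Field L] {P Y : Scheme.{u}} {π : P ⟶ Y}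
    {q : P ⟶ Spec (CommRingCat.of L)} {f : Y ⟶ Spec (CommRingCat.of K)} [LocallyOfFiniteType f]
    {g : Spec (CommRingCat.of L) ⟶ Spec (CommRingCat.of K)} (hP : IsPullback π q f g) (ν : Y)
    (hν : IsClosed ({ν} : Set Y)) : (π ⁻¹' {ν}).Subsingleton := by
  let σ := pointOfClosedPoint f ν hν
  have hσ : σ ≫ f = 𝟙 _ := pointOfClosedPoint_comp f ν hν
  let l := hP.lift (g ≫ σ) (𝟙 _) (by rw [Category.assoc, hσ, Category.comp_id, Category.id_comp])
  have hsq : IsPullback g l σ π := by
    refine IsPullback.of_bot ?_ (hP.lift_fst _ _ _).symm hP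
    rw [hP.lift_snd, hσ]
    exact IsPullback.of_vert_isIso ⟨by simp⟩
  have key : ∀ w ∈ π ⁻¹' {ν}, w = l (IsLocalRing.closedPoint L) := fun w hw => by
    obtain ⟨z, -, hz⟩ := Scheme.Pullback.exists_preimage_pullback (f := σ) (g := π) (IsLocalRing.closedPoint K) w
      (by rw [pointOfClosedPoint_apply]; exact (Set.mem_singleton_iff.mp hw).symm)
    rw [← hz, ← hsq.isoPullback_inv_snd, Scheme.Hom.comp_apply]
    exact congrArg l (@Subsingleton.elim (Spec (CommRingCat.of L)) inferInstance _ _)
  exact fun a ha b hb => (key a ha).trans (key b hb).symm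

variable {k : Type u} [Field k] {G X : Over (Spec (CommRingCat.of k))} [GrpObj G] (a : AlgGrp.Action G X)
  (hΦ : Surjective (lift a.act (snd G X)).left) [LocallyOfFiniteType G.hom]

set_option maxHeartbeats 800000 in
include hΦ in
/-- An open subset of the neutral component whose closed points translate a given point into `U`. -/
theorem exists_open_translating (U : X.left.Opens) (hU : ∀ c : X.left, IsMaxPt c → c ∈ U) (x : X.left) :
    ∃ Ω : G.left.Opens, ((Ω : Set G.left) ∩ SGA3x.neutralSet G).Nonempty ∧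
      ∀ p : (G ⊗ X).left, (fst G X).left p ∈ Ω → IsClosed ({(fst G X).left p} : Set G.left) →
        (snd G X).left p = x → a.act.left p ∈ U := by
  obtain ⟨L, _, _, φ, x', rfl⟩ := exists_bc_point (G := X) x
  let σ := Spec.map (CommRingCat.ofHom φ)
  let a' := bcAction a σ
  let ρ := a'.orbitMap x'
  let W' : (bc G φ).left.Opens := ρ.left ⁻¹ᵁ (bcProj X φ ⁻¹ᵁ U)
  obtain ⟨g, hgN, hgW⟩ : ∃ g, g ∈ SGA3x.neutralSet (bc G φ) ∧ g ∈ W' := by
    obtain ⟨c, hc, hcx⟩ := exists_isMaxPt (x'.left (IsLocalRing.closedPoint L))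
    rw [← orbitMap_one a' x'] at hcx
    obtain ⟨g, hg, rfl⟩ := generalizingMap_orbitMap a' (surjective_bcAction a σ hΦ) x' hcx
    exact ⟨g, mem_neutralSet_of_specializes hg,
      hU _ (hc.map (bcProj_generalizing φ))⟩
  letI : Algebra k L := φ.toAlgebra
  let jC : AlgebraicClosure k →ₐ[k] L := IsAlgClosed.lift
  let φ' := algebraMap k (AlgebraicClosure k)
  have hσ : Spec.map (CommRingCat.ofHom (jC : AlgebraicClosure k →+* L)) ≫ Spec.map (CommRingCat.ofHom φ') = σ := by
    rw [← Spec.map_comp, ← CommRingCat.ofHom_comp]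
    exact congrArg (fun ψ => Spec.map (CommRingCat.ofHom ψ)) (RingHom.ext fun y => jC.commutes y)
  let ρ₂ : (bc G φ).left ⟶ (bc G φ').left := pullback.lift (bcProj G φ)
    (pullback.snd G.hom σ ≫ Spec.map (CommRingCat.ofHom (jC : AlgebraicClosure k →+* L))) (by
      rw [Category.assoc, hσ]; exact pullback.condition)
  have hρ₂ : ρ₂ ≫ bcProj G φ' = bcProj G φ := pullback.lift_fst _ _ _
  have hP : IsPullback ρ₂ (pullback.snd G.hom σ) (pullback.snd G.hom (Spec.map (CommRingCat.ofHom φ')))
      (Spec.map (CommRingCat.ofHom (jC : AlgebraicClosure k →+* L))) := by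
    refine IsPullback.of_right ?_ (pullback.lift_snd _ _ _) (IsPullback.of_hasPullback _ _)
    rw [hσ, hρ₂]
    exact IsPullback.of_hasPullback _ _
  haveI : UniversallyOpen ρ₂ :=
    MorphismProperty.of_isPullback hP.flip (VarGeom.universallyOpen_of_field (k := AlgebraicClosure k) _)
  haveI : LocallyOfFiniteType (pullback.snd G.hom (Spec.map (CommRingCat.ofHom φ'))) := inferInstance
  haveI : IsIntegralHom (Spec.map (CommRingCat.ofHom φ')) :=
    (IsIntegralHom.SpecMap_iff).mpr (algebraMap_isIntegral_iff.mpr inferInstance)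
  haveI : IsIntegralHom (bcProj G φ') := MorphismProperty.pullback_fst _ _ inferInstance
  let Ω' : Set (bc G φ').left := ρ₂ '' W'
  have hΩ' : IsOpen Ω' := ρ₂.isOpenMap _ W'.isOpen
  let Ω : G.left.Opens := ⟨(bcProj G φ' '' Ω'ᶜ)ᶜ, ((bcProj G φ').isClosedMap _ hΩ'.isClosed_compl).isOpen_compl⟩
  refine ⟨Ω, ?_, fun p hpΩ hpc hpx => ?_⟩
  · obtain ⟨g₀, hg₀, hg₀e⟩ := exists_isMaxPt (η[G].left (IsLocalRing.closedPoint k))
    obtain ⟨c, hc, hce⟩ := exists_isMaxPt (η[bc G φ'].left (IsLocalRing.closedPoint (AlgebraicClosure k)))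
    have hN : SGA3x.neutralSet (bc G φ') = bcProj G φ' ⁻¹' SGA3x.neutralSet G :=
      GrpSchLib.Neutral.neutralSet_bc G _
    have hgΩ' : ρ₂ g ∈ Ω' ∩ SGA3x.neutralSet (bc G φ') := by
      refine ⟨⟨g, hgW, rfl⟩, ?_⟩
      rw [hN, Set.mem_preimage, ← Scheme.Hom.comp_apply, hρ₂]
      have h := hgN
      rw [show SGA3x.neutralSet (bc G φ) = bcProj G φ ⁻¹' SGA3x.neutralSet G from
        GrpSchLib.Neutral.neutralSet_bc G _] at h
      exact h
    refine ⟨g₀, ?_, mem_neutralSet_of_specializes hg₀e⟩
    rintro ⟨h, hhΩ, hhg⟩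
    refine hhΩ ?_
    have hhN : h ∈ SGA3x.neutralSet (bc G φ') := by
      rw [hN, Set.mem_preimage, hhg]; exact mem_neutralSet_of_specializes hg₀e
    rw [neutralSet_eq_closure hc hce] at hhN hgΩ'
    have hch : c ⤳ h := specializes_iff_mem_closure.mpr hhN
    have hcg : bcProj G φ' c = bcProj G φ' h := (hg₀ _ (hhg ▸ hch.map (bcProj G φ').continuous)).trans hhg.symm
    rw [← AlgSpDec.eq_of_specializes_of_isIntegralHom (bcProj G φ') hch hcg]
    exact (specializes_iff_mem_closure.mpr hgΩ'.2).mem_open hΩ' hgΩ'.1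
  · let θ : (bc G φ).left ⟶ (G ⊗ X).left := pullback.lift (bcProj G φ)
      (pullback.snd G.hom σ ≫ x'.left ≫ bcProj X φ) (by
        rw [Category.assoc, Category.assoc, pullback.condition (f := X.hom)]
        erw [reassoc_of% (Over.w x')]
        exact pullback.condition)
    have hθ : IsPullback θ (pullback.snd G.hom σ) (snd G X).left (x'.left ≫ bcProj X φ) := by
      refine IsPullback.of_right ?_ (pullback.lift_snd _ _ _) (IsPullback.of_hasPullback G.hom X.hom)
      rw [pullback.lift_fst, show (x'.left ≫ bcProj X φ) ≫ X.hom = σ by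
        rw [Category.assoc, pullback.condition (f := X.hom)]
        erw [reassoc_of% (Over.w x')]
        rfl]
      exact IsPullback.of_hasPullback _ _
    obtain ⟨z, hz, -⟩ := Scheme.Pullback.exists_preimage_pullback (f := (snd G X).left)
      (g := x'.left ≫ bcProj X φ) p (IsLocalRing.closedPoint L) (by rw [hpx, Scheme.Hom.comp_apply])
    obtain ⟨w, rfl⟩ : ∃ w, θ w = p := ⟨hθ.isoPullback.inv z, by rw [← Scheme.Hom.comp_apply, hθ.isoPullback_inv_fst, hz]⟩
    have hact : θ ≫ a.act.left = ρ.left ≫ bcProj X φ := by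
      have e : θ = (lift (𝟙 (Red.bc σ G)) (toUnit _ ≫ x') ≫ Functor.LaxMonoidal.μ (Over.pullback σ) G X).left ≫
          pullback.fst (G ⊗ X).hom σ := by
        apply pullback.hom_ext
        · rw [pullback.lift_fst, Category.assoc]
          show _ = _ ≫ pullback.fst (G ⊗ X).hom σ ≫ (fst G X).left
          rw [← fst_map_hom σ (fst G X), ← Category.assoc, ← Over.comp_left, Category.assoc,
            Functor.Monoidal.μ_fst, lift_fst]
          exact (Category.id_comp _).symm
        · rw [pullback.lift_snd, Category.assoc]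
          show _ = _ ≫ pullback.fst (G ⊗ X).hom σ ≫ (snd G X).left
          rw [← fst_map_hom σ (snd G X)]
          conv_rhs => rw [← Category.assoc, ← Over.comp_left, Category.assoc, Functor.Monoidal.μ_snd, lift_snd,
            Over.comp_left]
          rfl
      rw [e, Category.assoc, ← fst_map_hom σ a.act, ← Category.assoc, ← Over.comp_left, Category.assoc]
      rfl
    have hw : bcProj G φ w = (fst G X).left (θ w) :=
      (congrArg (fun m : (bc G φ).left ⟶ G.left => m w) (pullback.lift_fst _ _ _)).symm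
    rw [← hw] at hpΩ hpc
    have hνΩ : ρ₂ w ∈ Ω' := by
      by_contra hne
      exact hpΩ ⟨ρ₂ w, hne, by rw [← Scheme.Hom.comp_apply, hρ₂]⟩
    have hνc : IsClosed ({ρ₂ w} : Set (bc G φ').left) := by
      rw [← closure_subset_iff_isClosed]
      intro y hy
      have hwy : ρ₂ w ⤳ y := specializes_iff_mem_closure.mpr hy
      have h1 : bcProj G φ' y = bcProj G φ' (ρ₂ w) := by
        have := (hwy.map (bcProj G φ').continuous).mem_closed hpc
          (show bcProj G φ' (ρ₂ w) ∈ _ by rw [← Scheme.Hom.comp_apply, hρ₂]; rfl)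
        rw [Set.mem_singleton_iff] at this
        rw [this, ← Scheme.Hom.comp_apply, hρ₂]
      exact (AlgSpDec.eq_of_specializes_of_isIntegralHom (bcProj G φ') hwy h1.symm).symm
    obtain ⟨v, hvW, hv⟩ := hνΩ
    have hwv := subsingleton_preimage hP (ρ₂ w) hνc (show w ∈ ρ₂ ⁻¹' {ρ₂ w} from rfl) (show v ∈ ρ₂ ⁻¹' {ρ₂ w} from hv)
    rw [← Scheme.Hom.comp_apply, hact, Scheme.Hom.comp_apply]
    exact hwv ▸ hvW

set_option maxHeartbeats 400000 in
include hΦ in
/-- A closed point of the neutral component translating finitely many points into a dense open subset. -/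
theorem exists_translating_point' (U : X.left.Opens) (hU : ∀ c : X.left, IsMaxPt c → c ∈ U) (A : Set X.left) (hA : A.Finite) :
    ∃ g : G.left, g ∈ SGA3x.neutralSet G ∧ IsClosed ({g} : Set G.left) ∧
      ∀ p : (G ⊗ X).left, (fst G X).left p = g → (snd G X).left p ∈ A → a.act.left p ∈ U := by
  choose Ω hΩ hΩ' using exists_open_translating a hΦ U hU
  obtain ⟨g₀, hg₀, hg₀e⟩ := exists_isMaxPt (η[G].left (IsLocalRing.closedPoint k))
  have hN := neutralSet_eq_closure hg₀ hg₀e
  have hmem : ∀ x, g₀ ∈ Ω x := fun x => by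
    obtain ⟨y, hy, hyN⟩ := hΩ x
    rw [hN] at hyN
    exact (specializes_iff_mem_closure.mpr hyN).mem_open (Ω x).isOpen hy
  let Z : Set G.left := (⋂ x ∈ A, (Ω x : Set G.left)) ∩ closure {g₀}
  have hZ : IsLocallyClosed Z :=
    (hA.isOpen_biInter fun x _ => (Ω x).isOpen).isLocallyClosed.inter isClosed_closure.isLocallyClosed
  haveI : JacobsonSpace G.left := LocallyOfFiniteType.jacobsonSpace G.hom
  obtain ⟨g, hgZ, hgc⟩ := nonempty_inter_closedPoints
    (show Z.Nonempty from ⟨g₀, Set.mem_iInter₂.mpr fun x _ => hmem x, subset_closure rfl⟩) hZ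
  refine ⟨g, hN ▸ hgZ.2, hgc, fun p hp hpA => ?_⟩
  exact hΩ' _ p (hp ▸ Set.mem_iInter₂.mp hgZ.1 _ hpA) (hp ▸ hgc) rfl

include hΦ in
/-- The same for a dense open subset of a space locally of finite type. -/
theorem exists_translating_point [LocallyOfFiniteType X.hom] (U : X.left.Opens) (hU : Dense (U : Set X.left))
    (A : Set X.left) (hA : A.Finite) :
    ∃ g : G.left, g ∈ SGA3x.neutralSet G ∧ IsClosed ({g} : Set G.left) ∧
      ∀ p : (G ⊗ X).left, (fst G X).left p = g → (snd G X).left p ∈ A → a.act.left p ∈ U := by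
  haveI : IsLocallyNoetherian X.left := LocallyOfFiniteType.isLocallyNoetherian X.hom
  exact exists_translating_point' a hΦ U (fun c hc => FlatDense.mem_of_dense_of_max_scheme U hU hc) A hA

include hΦ in
/-- In a connected quasi-separated homogeneous space every nonempty open subset holds all maximal points. -/
theorem mem_of_isMaxPt [QuasiSeparatedSpace X.left] [PreconnectedSpace X.left] (U : X.left.Opens) (hU : (U : Set X.left).Nonempty)
    {c : X.left} (hc : IsMaxPt c) : c ∈ U := by
  obtain ⟨u, hu⟩ := hU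
  have h : u ∈ connectedComponent c := by rw [PreconnectedSpace.connectedComponent_eq_univ]; trivial
  rw [connectedComponent_eq a hΦ hc specializes_rfl] at h
  exact (specializes_iff_mem_closure.mpr h).mem_open U.isOpen hu

end

end Groth.Agent.Deform.Homogeneous
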